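import Groth.Agent.Lib.Helper1.CohPush
import Groth.Agent.Lib.Helper1.AusBuch

/-!
# Stalks of direct images along closed immersions: depth

* `depth_stalk_push_closedImmersion`: `depth_{O_{X,i z}} (i_* G)_{i z} = depth_{O_{Z,z}} G_z`.
* `nonempty_unitStalkEquiv`: the stalk of the structure module is the local ring.
-/

set_option autoImplicit false
set_option linter.style.haveILetI false

universe u

open CategoryTheory Limits AlgebraicGeometry TopologicalSpace Opposite

namespace Groth.Agent.LD.PD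

open Groth.Agent.LD.QC Groth.Agent.H1.SchFlat Groth.Agent.H1.CohLen

section Alg

/-- Depth of localized modules along a surjection of rings. -/
theorem depth_eq_of_surjective_isLocalizedModule
    {A B : Type u} [CommRing A] [CommRing B] [Algebra A B]
    (hφ : Function.Surjective (algebraMap A B))
    (q : Ideal B) [q.IsPrime] (p : Ideal A) [p.IsPrime] (hp : p = q.comap (algebraMap A B))
    (Ap Bq : Type u) [CommRing Ap] [CommRing Bq] [IsLocalRing Ap] [IsLocalRing Bq]
    [Algebra A Ap] [Algebra B Bq]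
    [IsLocalization.AtPrime Ap p] [Algebra Ap Bq]
    (hψ : Function.Surjective (algebraMap Ap Bq))
    {M N N' : Type u} [AddCommGroup M] [Module A M] [Module B M] [IsScalarTower A B M]
    [AddCommGroup N] [Module A N] [Module Ap N] [IsScalarTower A Ap N]
    (g : M →ₗ[A] N) [IsLocalizedModule p.primeCompl g]
    [AddCommGroup N'] [Module B N'] [Module Bq N'] [Module A N'] [IsScalarTower A B N']
    [Module Ap N'] [IsScalarTower Ap Bq N'] [IsScalarTower A Ap N']
    (g' : M →ₗ[B] N') [IsLocalizedModule q.primeCompl g'] [Module.Finite Bq N'] :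
    LocCoh.depth Ap N = LocCoh.depth Bq N' := by
  haveI : IsLocalizedModule (Algebra.algebraMapSubmonoid B p.primeCompl) g' := by
    rw [algebraMapSubmonoid_primeCompl_of_surjective hφ q p hp]
    infer_instance
  haveI : IsLocalizedModule p.primeCompl (g'.restrictScalars A) :=
    IsLocalizedModule.restrictScalars p.primeCompl g'
  let e : N ≃ₗ[A] N' := IsLocalizedModule.linearEquiv p.primeCompl g (g'.restrictScalars A)
  let e' : N ≃ₗ[Ap] N' := e.extendScalarsOfIsLocalization p.primeCompl Ap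
  haveI : Module.Finite Ap Bq := Module.Finite.of_surjective (Algebra.linearMap Ap Bq) hψ
  haveI : Module.Finite Ap N' := Module.Finite.trans Bq N'
  rw [Groth.Agent.H1.AB.depth_eq_of_linearEquiv e']
  exact Groth.Agent.H1.AB.depth_eq_of_surjective hψ N'

end Alg

variable {X Z : Scheme.{u}}

/-- the stalk of the structure module is the local ring. -/
theorem nonempty_unitStalkEquiv (z : Z) :
    Nonempty ((unitMod Z).presheaf.stalk z ≃ₗ[Z.presheaf.stalk z] Z.presheaf.stalk z) := by
  obtain ⟨V, hV, hzV, -⟩ := exists_isAffineOpen_mem_and_subset (x := z) (U := ⊤) trivial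
  letI := stalkΓModule (unitMod Z) z V hzV
  haveI hloc := isLocalizedModule_germ (unitMod Z) hV z hzV
  letI : Algebra Γ(Z, V) (Z.presheaf.stalk z) := Z.presheaf.algebra_section_stalk ⟨z, hzV⟩
  haveI := hV.isLocalization_stalk ⟨z, hzV⟩
  haveI := isScalarTower_stalk (unitMod Z) z V hzV
  set q := (hV.primeIdealOf ⟨z, hzV⟩).asIdeal with hq
  haveI : IsLocalizedModule q.primeCompl (Algebra.linearMap Γ(Z, V) (Z.presheaf.stalk z)) :=
    inferInstance
  haveI : IsLocalizedModule q.primeCompl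
      ((Algebra.linearMap Γ(Z, V) (Z.presheaf.stalk z)) ∘ₗ (unitΓEquiv V).toLinearMap) :=
    IsLocalizedModule.of_linearEquiv_right _ _ _
  let e : (unitMod Z).presheaf.stalk z ≃ₗ[Γ(Z, V)] Z.presheaf.stalk z :=
    IsLocalizedModule.linearEquiv q.primeCompl (germLinear (unitMod Z) z V hzV)
      ((Algebra.linearMap Γ(Z, V) (Z.presheaf.stalk z)) ∘ₗ (unitΓEquiv V).toLinearMap)
  exact ⟨e.extendScalarsOfIsLocalization q.primeCompl (Z.presheaf.stalk z)⟩

/-- For a closed immersion `i` and a quasi-coherent module `G` with finite stalk at `z`, the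
stalk of `i_* G` at `i z` has the same depth as the stalk of `G` at `z`. -/
theorem depth_stalk_push_closedImmersion (i : Z ⟶ X) [IsClosedImmersion i] (G : Z.Modules)
    [G.IsQuasicoherent] (z : Z) [Module.Finite (Z.presheaf.stalk z) (G.presheaf.stalk z)] :
    LocCoh.depth (X.presheaf.stalk (i z))
        (((Scheme.Modules.pushforward i).obj G).presheaf.stalk (i z)) =
      LocCoh.depth (Z.presheaf.stalk z) (G.presheaf.stalk z) := by
  obtain ⟨U, hU, hxU, -⟩ := exists_isAffineOpen_mem_and_subset (x := i z) (U := ⊤) trivial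
  have hV : IsAffineOpen (i ⁻¹ᵁ U) := hU.preimage i
  have hzV : z ∈ i ⁻¹ᵁ U := hxU
  haveI : ((Scheme.Modules.pushforward i).obj G).IsQuasicoherent := qc_pushforward i G
  -- structures on the stalk of `N`
  letI mN := stalkΓModule ((Scheme.Modules.pushforward i).obj G) (i z) U hxU
  haveI hlocN := isLocalizedModule_germ ((Scheme.Modules.pushforward i).obj G) hU (i z) hxU
  letI algA : Algebra Γ(X, U) (X.presheaf.stalk (i z)) :=
    X.presheaf.algebra_section_stalk ⟨i z, hxU⟩
  haveI := hU.isLocalization_stalk ⟨i z, hxU⟩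
  haveI := isScalarTower_stalk ((Scheme.Modules.pushforward i).obj G) (i z) U hxU
  -- structures on the stalk of `G`
  letI mG := stalkΓModule G z (i ⁻¹ᵁ U) hzV
  haveI hlocG := isLocalizedModule_germ G hV z hzV
  letI algB : Algebra Γ(Z, i ⁻¹ᵁ U) (Z.presheaf.stalk z) :=
    Z.presheaf.algebra_section_stalk ⟨z, hzV⟩
  haveI := hV.isLocalization_stalk ⟨z, hzV⟩
  haveI := isScalarTower_stalk G z (i ⁻¹ᵁ U) hzV
  -- the ring maps
  letI algAB : Algebra Γ(X, U) Γ(Z, i ⁻¹ᵁ U) := (i.app U).hom.toAlgebra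
  letI algψ : Algebra (X.presheaf.stalk (i z)) (Z.presheaf.stalk z) := (i.stalkMap z).hom.toAlgebra
  have hφ : Function.Surjective (algebraMap Γ(X, U) Γ(Z, i ⁻¹ᵁ U)) := i.app_surjective U hU
  have hψ : Function.Surjective (algebraMap (X.presheaf.stalk (i z)) (Z.presheaf.stalk z)) :=
    i.stalkMap_surjective z
  -- the prime ideals
  have hp : (hU.primeIdealOf ⟨i z, hxU⟩).asIdeal =
      (hV.primeIdealOf ⟨z, hzV⟩).asIdeal.comap (algebraMap Γ(X, U) Γ(Z, i ⁻¹ᵁ U)) := by
    have h := primeIdealOf_comap i hV hU le_rfl z hzV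
    rw [Scheme.Hom.appLE_eq_app] at h
    exact h
  -- module structures over `Γ(X, U)` and `O_{X, i z}` on the stalk of `G`
  letI mB : Module Γ(Z, i ⁻¹ᵁ U) Γ((Scheme.Modules.pushforward i).obj G, U) :=
    inferInstanceAs (Module Γ(Z, i ⁻¹ᵁ U) Γ(G, i ⁻¹ᵁ U))
  haveI : IsScalarTower Γ(X, U) Γ(Z, i ⁻¹ᵁ U) Γ((Scheme.Modules.pushforward i).obj G, U) :=
    IsScalarTower.of_algebraMap_smul fun r m => rfl
  letI mAG : Module Γ(X, U) (G.presheaf.stalk z) :=
    Module.compHom (G.presheaf.stalk z) (algebraMap Γ(X, U) Γ(Z, i ⁻¹ᵁ U))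
  haveI : IsScalarTower Γ(X, U) Γ(Z, i ⁻¹ᵁ U) (G.presheaf.stalk z) :=
    IsScalarTower.of_algebraMap_smul fun r m => rfl
  letI mApG : Module (X.presheaf.stalk (i z)) (G.presheaf.stalk z) :=
    Module.compHom (G.presheaf.stalk z) (algebraMap (X.presheaf.stalk (i z)) (Z.presheaf.stalk z))
  haveI : IsScalarTower (X.presheaf.stalk (i z)) (Z.presheaf.stalk z) (G.presheaf.stalk z) :=
    IsScalarTower.of_algebraMap_smul fun r m => rfl
  haveI : IsScalarTower Γ(X, U) (X.presheaf.stalk (i z)) (G.presheaf.stalk z) := by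
    refine ⟨fun a r n => ?_⟩
    change (i.stalkMap z).hom (a • r) • n =
      Z.presheaf.germ (i ⁻¹ᵁ U) z hzV ((i.app U).hom a) • ((i.stalkMap z).hom r • n)
    rw [Algebra.smul_def, map_mul, mul_smul]
    congr 1
    exact i.germ_stalkMap_apply U z hxU a
  let g' : Γ((Scheme.Modules.pushforward i).obj G, U) →ₗ[Γ(Z, i ⁻¹ᵁ U)] G.presheaf.stalk z :=
    germLinear G z (i ⁻¹ᵁ U) hzV
  haveI : IsLocalizedModule (hV.primeIdealOf ⟨z, hzV⟩).asIdeal.primeCompl g' := hlocG
  exact depth_eq_of_surjective_isLocalizedModule hφ (hV.primeIdealOf ⟨z, hzV⟩).asIdeal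
    (hU.primeIdealOf ⟨i z, hxU⟩).asIdeal hp (X.presheaf.stalk (i z)) (Z.presheaf.stalk z) hψ
    (germLinear ((Scheme.Modules.pushforward i).obj G) (i z) U hxU) g'

end Groth.Agent.LD.PD
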