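import Groth.Agent.Lib.Helper1.CohPush
import Groth.Agent.Lib.Helper1.AusBuch
import Groth.Agent.Lib.Lead.QC.InvBasis
import Groth.Agent.Lib.Lead.QC.TensorQC
import Groth.Agent.Lib.Lead.QC.TensorDesc
import Groth.Agent.Lib.Lead.QC.TensorPow

/-!
# Stalks of twists by invertible modules

* `nonempty_stalk_tensor_equiv`: `F_x ≃ (F ⊗ L)_x` for `L` invertible.
* `depth_stalk_tensor`: twisting by an invertible module does not change the depth of the stalks.
-/

set_option autoImplicit false
set_option linter.style.haveILetI false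

universe u

open CategoryTheory Limits AlgebraicGeometry TopologicalSpace Opposite

namespace Groth.Agent.LD.PD

open Groth.Agent.LD.QC Groth.Agent.H1.SchFlat Groth.Agent.H1.CohLen

variable {X : Scheme.{u}}

/-- the stalks of `F ⊗ L`, `L` invertible, are those of `F`. -/
theorem nonempty_stalk_tensor_equiv (F L : X.Modules) [F.IsQuasicoherent]
    (hL : PicF.IsInvertible L) (x : X) :
    Nonempty (F.presheaf.stalk x ≃ₗ[X.presheaf.stalk x]
      (CohB1.tensorMod F L).presheaf.stalk x) := by
  haveI : L.IsQuasicoherent := qc_of_isInvertible L hL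
  haveI : (CohB1.tensorMod F L).IsQuasicoherent := tensorMod_isQuasicoherent _ _
  obtain ⟨U, e, hxU, he⟩ := (isInvertible_iff_exists_isBasisOver L).mp hL x
  obtain ⟨V, hV, hxV, hVU⟩ := exists_isAffineOpen_mem_and_subset (x := x) (U := U) hxU
  have hVU' : V ≤ U := hVU
  letI := stalkΓModule F x V hxV
  letI := stalkΓModule (CohB1.tensorMod F L) x V hxV
  haveI hlocF := isLocalizedModule_germ F hV x hxV
  haveI hlocT := isLocalizedModule_germ (CohB1.tensorMod F L) hV x hxV
  letI : Algebra Γ(X, V) (X.presheaf.stalk x) := X.presheaf.algebra_section_stalk ⟨x, hxV⟩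
  haveI := hV.isLocalization_stalk ⟨x, hxV⟩
  haveI := isScalarTower_stalk F x V hxV
  haveI := isScalarTower_stalk (CohB1.tensorMod F L) x V hxV
  set q := (hV.primeIdealOf ⟨x, hxV⟩).asIdeal with hq
  let τ₀ : Γ(F, V) →ₗ[Γ(X, V)] Γ(CohB1.tensorMod F L, V) :=
    { toFun := fun t => SecTwist.tmul F L V t (L.presheaf.map (homOfLE hVU').op e)
      map_add' := fun t t' => tmul_add_left F L V t t' _
      map_smul' := fun a t => tmul_smul_left F L V a t _ }
  let τ : Γ(F, V) ≃ₗ[Γ(X, V)] Γ(CohB1.tensorMod F L, V) :=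
    LinearEquiv.ofBijective τ₀ (bijective_tmul_of_isBasisOver F L he V hVU')
  haveI : IsLocalizedModule q.primeCompl
      ((germLinear (CohB1.tensorMod F L) x V hxV) ∘ₗ τ.toLinearMap) :=
    IsLocalizedModule.of_linearEquiv_right _ _ _
  let ε : F.presheaf.stalk x ≃ₗ[Γ(X, V)] (CohB1.tensorMod F L).presheaf.stalk x :=
    IsLocalizedModule.linearEquiv q.primeCompl (germLinear F x V hxV)
      ((germLinear (CohB1.tensorMod F L) x V hxV) ∘ₗ τ.toLinearMap)
  exact ⟨ε.extendScalarsOfIsLocalization q.primeCompl (X.presheaf.stalk x)⟩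

/-- twisting by an invertible module does not change the depth of the stalks. -/
theorem depth_stalk_tensor (F L : X.Modules) [F.IsQuasicoherent]
    (hL : PicF.IsInvertible L) (x : X) :
    LocCoh.depth (X.presheaf.stalk x) ((CohB1.tensorMod F L).presheaf.stalk x) =
      LocCoh.depth (X.presheaf.stalk x) (F.presheaf.stalk x) := by
  obtain ⟨e⟩ := nonempty_stalk_tensor_equiv F L hL x
  exact (Groth.Agent.H1.AB.depth_eq_of_linearEquiv e).symm

end Groth.Agent.LD.PD
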