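import Groth.Agent.Lib.Lead.PD.HomAdj2
import Groth.Agent.Lib.Lead.PN.SerreDualExt
import Groth.Agent.Lib.Lead.PF.LocalVanish
import Groth.Agent.Lib.Lead.PD.TwistStalk
import Groth.Agent.Lib.Lead.PD.PushDepth

/-! # The converse depth criterion on projective space

For a coherent module `F` on `P = P^r_k` and `i + j = r`: `H^i(P, F(-m)) = 0` for `m ≫ 0` iff
`Ext^j_{O_{P,x}}(F_x, O_{P,x}) = 0` for all (closed) points `x`. -/

set_option autoImplicit false
set_option linter.style.haveILetI false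
noncomputable section
universe u
open CategoryTheory Limits AlgebraicGeometry TopologicalSpace Opposite Abelian

namespace Groth.Agent.LD.PD.HA

open Twist Groth.Agent.LD.QC Groth.Agent.LD Groth.Agent.LD.PN Groth.Agent.LD.TW

attribute [-instance] Groth.Agent.LD.QC.stalkModule

/-! ### a consequence of the long exact sequence -/

theorem subsingleton_X₃_of_injective {X : Scheme.{u}} {S : ShortComplex X.Modules}
    (hS : S.ShortExact) (i : ℕ) (h₂ : Subsingleton (Coh.HH X S.X₂ i))
    (hinj : Function.Injective (CL.HHmapZ S.f (i + 1))) : Subsingleton (Coh.HH X S.X₃ i) := by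
  refine ⟨fun a b => ?_⟩
  have key : ∀ x₃ : Coh.HH X S.X₃ i, x₃ = 0 := by
    intro x₃
    have h0 : x₃.comp (SC.shortExact_toSheaf hS).extClass rfl = 0 := by
      apply hinj
      refine Eq.trans ?_ (map_zero (CL.HHmapZ S.f (i + 1))).symm
      change (x₃.comp (SC.shortExact_toSheaf hS).extClass rfl).comp
        (Ext.mk₀ ((SheafOfModules.toSheaf X.ringCatSheaf).map S.f)) (add_zero (i + 1)) = 0
      rw [Ext.comp_assoc_of_third_deg_zero]
      have h1 := ShortComplex.ShortExact.extClass_comp.{u, u, u+1}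
        (C := Sheaf (SC.JX X) AddCommGrpCat.{u}) (SC.shortExact_toSheaf hS)
      refine (congrArg (fun t => x₃.comp t rfl) h1).trans ?_
      exact Ext.comp_zero.{u, u, u+1} (C := Sheaf (SC.JX X) AddCommGrpCat.{u}) _ _ _ _ _
    obtain ⟨x₂, hx₂⟩ := Ext.covariant_sequence_exact₃.{u, u, u+1}
      (C := Sheaf (SC.JX X) AddCommGrpCat.{u}) _ (SC.shortExact_toSheaf hS) x₃ rfl h0
    rw [← hx₂, h₂.elim x₂ 0]
    exact Ext.zero_comp.{u, u, u+1} (C := Sheaf (SC.JX X) AddCommGrpCat.{u}) _ _ _ _ _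
  rw [key a, key b]

/-- the stalks of an invertible module are free of rank one. -/
theorem nonempty_stalk_equiv_of_isInvertible {X : Scheme.{u}} (L : X.Modules)
    (hL : PicF.IsInvertible L) (x : X) :
    Nonempty (L.presheaf.stalk x ≃ₗ[X.presheaf.stalk x] X.presheaf.stalk x) := by
  haveI : (unitMod X).IsQuasicoherent := (PF.isCoh_unitMod X).1
  obtain ⟨e1⟩ := PD.nonempty_stalk_tensor_equiv (unitMod X) L hL x
  obtain ⟨e3⟩ := PD.nonempty_unitStalkEquiv (Z := X) x
  let e2 : (CohB1.tensorMod (unitMod X) L).presheaf.stalk x ≃ₗ[X.presheaf.stalk x]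
      L.presheaf.stalk x := ((DerSch.stalkFunctor X x).mapIso (QC.unitorL' L)).toLinearEquiv
  exact ⟨e2.symm ≪≫ₗ e1.symm ≪≫ₗ e3⟩

variable (r : ℕ) (k : Type u) [Field k]

/-- the dualizing module of projective space. -/
abbrev om : (Proj (CohB1.polyGrading r k)).Modules :=
  twist (CohB1.polyGrading r k) (-((r : ℤ) + 1))

/-- `H^i(F(-m)) = 0` for `m ≫ 0`. -/
def Van (F : (Proj (CohB1.polyGrading r k)).Modules) (i : ℕ) : Prop :=
  ∃ m₀ : ℕ, ∀ m : ℕ, m₀ ≤ m →
    Subsingleton (Coh.HH (Proj (CohB1.polyGrading r k)) (tw r k F (-(m : ℤ))) i)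

lemma isCoh_twist' (d : ℤ) : Coh.IsCoh (twist (CohB1.polyGrading r k) d) :=
  ⟨qc_twist r k d, QC.isFiniteType_of_isInvertible _ (isInvertible_twist r k d)⟩

/-! ### duality -/

section Duality

variable {r k}
variable {F' : (Proj (CohB1.polyGrading r k)).Modules}

theorem hom_eq_zero_of_subsingleton (hF' : Coh.IsCoh F')
    (h : Subsingleton (Coh.HH (Proj (CohB1.polyGrading r k)) F' r)) (lam : F' ⟶ om r k) :
    lam = 0 := by
  have hb := (CL.isDualFor_iff k r (om r k) (trN' k r) F').mp (isDualFor_coh r k F' hF')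
  apply hb.1
  apply LinearMap.ext
  intro x
  rw [Subsingleton.elim x 0, map_zero, map_zero]

theorem subsingleton_of_hom_eq_zero (hF' : Coh.IsCoh F') (h : ∀ lam : F' ⟶ om r k, lam = 0) :
    Subsingleton (Coh.HH (Proj (CohB1.polyGrading r k)) F' r) := by
  have hb := (CL.isDualFor_iff k r (om r k) (trN' k r) F').mp (isDualFor_coh r k F' hF')
  haveI : Subsingleton (Module.Dual k (Coh.HH (Proj (CohB1.polyGrading r k)) F' r)) :=
    ⟨fun ψ ψ' => by
      obtain ⟨l, rfl⟩ := hb.2 ψ
      obtain ⟨l', rfl⟩ := hb.2 ψ'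
      rw [h l, h l']⟩
  exact (Module.subsingleton_dual_iff k).mp inferInstance

variable {K' E' : (Proj (CohB1.polyGrading r k)).Modules}

theorem extend_of_injective (hK' : Coh.IsCoh K') (hE' : Coh.IsCoh E') (u' : K' ⟶ E')
    (hinj : Function.Injective (CL.HHmap k u' r)) (lam : K' ⟶ om r k) :
    ∃ Lam : E' ⟶ om r k, lam = u' ≫ Lam := by
  have hbK := (CL.isDualFor_iff k r (om r k) (trN' k r) K').mp (isDualFor_coh r k K' hK')
  have hbE := (CL.isDualFor_iff k r (om r k) (trN' k r) E').mp (isDualFor_coh r k E' hE')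
  obtain ⟨g, hg⟩ := LinearMap.exists_leftInverse_of_injective (CL.HHmap k u' r)
    (LinearMap.ker_eq_bot.mpr hinj)
  obtain ⟨Lam, hLam⟩ := hbE.2 ((CL.Θ k r (trN' k r) lam).comp g)
  refine ⟨Lam, hbK.1 ?_⟩
  rw [CL.Θ_comp, hLam, LinearMap.comp_assoc, hg, LinearMap.comp_id]

theorem injective_of_extend (hK' : Coh.IsCoh K') (u' : K' ⟶ E')
    (hext : ∀ lam : K' ⟶ om r k, ∃ Lam : E' ⟶ om r k, lam = u' ≫ Lam) :
    Function.Injective (CL.HHmap k u' r) := by
  have hbK := (CL.isDualFor_iff k r (om r k) (trN' k r) K').mp (isDualFor_coh r k K' hK')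
  rw [injective_iff_map_eq_zero]
  intro x hx
  rw [← Module.forall_dual_apply_eq_zero_iff k]
  intro ψ
  obtain ⟨lam, rfl⟩ := hbK.2 ψ
  obtain ⟨Lam, rfl⟩ := hext lam
  rw [CL.Θ_comp, LinearMap.comp_apply, hx, map_zero]

end Duality

/-! ### the case `j = 0` -/

section Zero

variable {r k}

theorem ext_zero_of_van (F : (Proj (CohB1.polyGrading r k)).Modules) (hF : Coh.IsCoh F)
    (hv : Van r k F r) (x : Proj (CohB1.polyGrading r k))
    (θ : RefHull.StalkHom F (om r k) x) : θ = 0 := by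
  haveI : F.IsQuasicoherent := hF.1
  have hfp : F.IsFinitePresentation := QC.isFinitePresentation_of_qc_ft F hF.1 hF.2
  have hH : Coh.IsCoh (RefHull.homSh F (om r k)) :=
    Groth.Agent.H2.HomSh.isCoh_homSh hF (isCoh_twist' r k _)
  obtain ⟨m₀, hm₀⟩ := hv
  obtain ⟨m₁, hm₁⟩ := exists_epi_sigma_twist r k _ hH.1 hH.2
  obtain ⟨N, p, hp⟩ := hm₁ (max m₀ m₁) (le_max_right _ _)
  have hvan := hm₀ (max m₀ m₁) (le_max_left _ _)
  refine stalkHom_eq_zero_of_isZero F _ hfp ?_ x θ
  haveI := hp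
  apply eq_zero_of_epi_sigma _ _ N p
  intro ξ
  apply sharp_injective
  rw [sharp_zero]
  exact hom_eq_zero_of_subsingleton (isCoh_twist r k F hF _) hvan (sharp ξ)

theorem van_of_ext_zero (F : (Proj (CohB1.polyGrading r k)).Modules) (hF : Coh.IsCoh F)
    (h : ∀ x : Proj (CohB1.polyGrading r k),
      IsClosed ({x} : Set (Proj (CohB1.polyGrading r k))) →
      ∀ θ : RefHull.StalkHom F (om r k) x, θ = 0) : Van r k F r := by
  haveI : F.IsQuasicoherent := hF.1
  haveI : (om r k).IsQuasicoherent := qc_twist r k _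
  have hfp : F.IsFinitePresentation := QC.isFinitePresentation_of_qc_ft F hF.1 hF.2
  have hz : IsZero (RefHull.homSh F (om r k)) := isZero_homSh_of_closed_points F _ hfp h
  refine ⟨0, fun m _ => ?_⟩
  haveI : (twist (CohB1.polyGrading r k) (-(m : ℤ))).IsQuasicoherent := qc_twist r k _
  apply subsingleton_of_hom_eq_zero (isCoh_twist r k F hF _)
  intro lam
  rw [← sharp_flat lam, hz.eq_of_tgt (flat lam) 0, sharp_zero]

end Zero

/-! ### the case `j = 1` -/

section One

variable {r k}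
variable {S : ShortComplex (Proj (CohB1.polyGrading r k)).Modules}

theorem extend_of_van (hS : S.ShortExact) (hK : Coh.IsCoh S.X₁) (hE : Coh.IsCoh S.X₂) (i : ℕ)
    (hi : i + 1 = r) (hv : Van r k S.X₃ i) (x : Proj (CohB1.polyGrading r k))
    (θ : RefHull.StalkHom S.X₁ (om r k) x) :
    ∃ Θ : RefHull.StalkHom S.X₂ (om r k) x, θ = Θ.comp (RefHull.stalkMapₗ S.f x) := by
  subst hi
  haveI : S.X₁.IsQuasicoherent := hK.1
  haveI : S.X₂.IsQuasicoherent := hE.1
  have hfpK : S.X₁.IsFinitePresentation := QC.isFinitePresentation_of_qc_ft _ hK.1 hK.2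
  have hH : Coh.IsCoh (RefHull.homSh S.X₁ (om (i + 1) k)) :=
    Groth.Agent.H2.HomSh.isCoh_homSh hK (isCoh_twist' (i + 1) k _)
  obtain ⟨m₀, hm₀⟩ := hv
  obtain ⟨m₁, hm₁⟩ := exists_epi_sigma_twist (i + 1) k _ hH.1 hH.2
  obtain ⟨m, hm0, hm1⟩ : ∃ m : ℕ, m₀ ≤ m ∧ m₁ ≤ m :=
    ⟨max m₀ m₁, le_max_left _ _, le_max_right _ _⟩
  obtain ⟨N, p, hp⟩ := hm₁ m hm1
  have hvan := hm₀ m hm0
  haveI : (twist (CohB1.polyGrading (i + 1) k) (-(m : ℤ))).IsQuasicoherent := qc_twist _ k _
  have hT := QC.shortExact_tensorMap_of_isInvertible hS _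
    (isInvertible_twist (i + 1) k (-(m : ℤ)))
  have hinjZ := CL.injective_of_subsingleton hT i hvan
  have hinj : Function.Injective (CL.HHmap k (KoszTw.tensorMap S.f
      (𝟙 (twist (CohB1.polyGrading (i + 1) k) (-(m : ℤ))))) (i + 1)) :=
    fun a b hab => hinjZ hab
  have hext := extend_of_injective (isCoh_twist (i + 1) k S.X₁ hK _)
    (isCoh_twist (i + 1) k S.X₂ hE _) _ hinj
  have hlift := lift_of_extend (Z := om (i + 1) k) S.f hext
  haveI := hp
  have hepi := epi_preHom_of_lift S.f (om (i + 1) k)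
    (twist (CohB1.polyGrading (i + 1) k) (-(m : ℤ))) N p hlift
  exact stalk_extend_of_epi_preHom S.f _ hfpK hepi x θ

theorem van_of_extend (hS : S.ShortExact) (hK : Coh.IsCoh S.X₁) (hE : Coh.IsCoh S.X₂) (i : ℕ)
    (hi : i + 1 = r)
    (hEv : ∀ m : ℕ, Subsingleton (Coh.HH (Proj (CohB1.polyGrading r k))
      (tw r k S.X₂ (-(m : ℤ))) i))
    (h : ∀ x : Proj (CohB1.polyGrading r k),
      IsClosed ({x} : Set (Proj (CohB1.polyGrading r k))) →
      ∀ θ : RefHull.StalkHom S.X₁ (om r k) x,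
        ∃ Θ : RefHull.StalkHom S.X₂ (om r k) x, θ = Θ.comp (RefHull.stalkMapₗ S.f x)) :
    Van r k S.X₃ i := by
  subst hi
  haveI : S.X₁.IsQuasicoherent := hK.1
  haveI : S.X₂.IsQuasicoherent := hE.1
  haveI : (om (i + 1) k).IsQuasicoherent := qc_twist (i + 1) k _
  have hfpK : S.X₁.IsFinitePresentation := QC.isFinitePresentation_of_qc_ft _ hK.1 hK.2
  have hfpE : S.X₂.IsFinitePresentation := QC.isFinitePresentation_of_qc_ft _ hE.1 hE.2
  have hepi : Epi (preHom S.f (om (i + 1) k)) :=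
    epi_preHom_of_closed_points S.f _ hfpK hfpE h
  obtain ⟨φ, hφ⟩ : ∃ φ : RefHull.homSh S.X₂ (om (i + 1) k) ⟶ RefHull.homSh S.X₁ (om (i + 1) k),
    φ = preHom S.f (om (i + 1) k) := ⟨_, rfl⟩
  rw [← hφ] at hepi
  have hHK : Coh.IsCoh (RefHull.homSh S.X₁ (om (i + 1) k)) :=
    Groth.Agent.H2.HomSh.isCoh_homSh hK (isCoh_twist' (i + 1) k _)
  have hHE : Coh.IsCoh (RefHull.homSh S.X₂ (om (i + 1) k)) :=
    Groth.Agent.H2.HomSh.isCoh_homSh hE (isCoh_twist' (i + 1) k _)
  have hNqc : (kernel φ).IsQuasicoherent := QC.qc_kernel φ hHE.1 hHK.1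
  have hN : Coh.IsCoh (kernel φ) :=
    ⟨hNqc, QC.isFiniteType_of_mono (kernel.ι φ) hNqc hHE.1 hHE.2⟩
  obtain ⟨d₀, hd₀⟩ := serre_vanishing' (i + 1) k (kernel φ) hN
  refine ⟨d₀.toNat, fun m hm => ?_⟩
  have hmd : d₀ ≤ -(-(m : ℤ)) := by omega
  have hSN : (ShortComplex.mk (kernel.ι φ) φ (kernel.condition φ)).ShortExact :=
    { exact := ShortComplex.exact_of_f_is_kernel _ (kernelIsKernel φ)
      mono_f := inferInstanceAs (Mono (kernel.ι φ))
      epi_g := hepi }
  haveI := Groth.Agent.H1.sheafOfModules_isGrothendieckAbelian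
    (Opens.grothendieckTopology (Proj (CohB1.polyGrading (i + 1) k)))
    (Proj (CohB1.polyGrading (i + 1) k)).ringCatSheaf
  haveI : EnoughInjectives (Proj (CohB1.polyGrading (i + 1) k)).Modules :=
    inferInstanceAs (EnoughInjectives
      (SheafOfModules.{u} (Proj (CohB1.polyGrading (i + 1) k)).ringCatSheaf))
  haveI : HasExt.{u} (Proj (CohB1.polyGrading (i + 1) k)).Modules :=
    hasExt_of_enoughInjectives.{u} _
  haveI : (twist (CohB1.polyGrading (i + 1) k) (-(m : ℤ))).IsQuasicoherent := qc_twist _ k _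
  have hlift : ∀ ξ : twist (CohB1.polyGrading (i + 1) k) (-(m : ℤ)) ⟶
      RefHull.homSh S.X₁ (om (i + 1) k),
      ∃ ζ : twist (CohB1.polyGrading (i + 1) k) (-(m : ℤ)) ⟶ RefHull.homSh S.X₂ (om (i + 1) k),
        ζ ≫ preHom S.f (om (i + 1) k) = ξ := by
    intro ξ
    obtain ⟨e⟩ := nonempty_ext_twist_equiv (i + 1) k (-(m : ℤ)) (kernel φ) 1
    haveI : Subsingleton (Coh.HH (Proj (CohB1.polyGrading (i + 1) k))
        (tw (i + 1) k (kernel φ) (-(-(m : ℤ)))) 1) := hd₀ _ hmd 1 one_pos
    haveI : Subsingleton (Ext (twist (CohB1.polyGrading (i + 1) k) (-(m : ℤ))) (kernel φ) 1) :=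
      e.toEquiv.subsingleton
    obtain ⟨x₂, hx₂⟩ := Ext.covariant_sequence_exact₃
      (twist (CohB1.polyGrading (i + 1) k) (-(m : ℤ))) hSN (Ext.mk₀ ξ) (n₁ := 1) rfl
      (Subsingleton.elim _ _)
    obtain ⟨ζ, rfl⟩ := (Ext.mk₀_bijective _ _).2 x₂
    rw [Ext.mk₀_comp_mk₀] at hx₂
    refine ⟨ζ, ?_⟩
    rw [← hφ]
    exact (Ext.mk₀_bijective _ _).1 hx₂
  have hext := fun lam => extend_of_lift (Z := om (i + 1) k) S.f hlift lam
  have hinj := injective_of_extend (isCoh_twist (i + 1) k S.X₁ hK _)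
    (KoszTw.tensorMap S.f (𝟙 (twist (CohB1.polyGrading (i + 1) k) (-(m : ℤ))))) hext
  have hT := QC.shortExact_tensorMap_of_isInvertible hS _
    (isInvertible_twist (i + 1) k (-(m : ℤ)))
  exact subsingleton_X₃_of_injective hT i (hEv m) (fun a b hab => hinj hab)

end One

/-! ### the main theorem -/

theorem subsingleton_HH_E (m₀' N m i : ℕ) (hi : i < r) :
    Subsingleton (Coh.HH (Proj (CohB1.polyGrading r k))
      (tw r k (∐ fun _ : Fin N => twist (CohB1.polyGrading r k) (-((r : ℤ) + 1 + m₀')))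
        (-(m : ℤ))) i) := by
  apply QC.subsingleton_HH_sigma_tensor _ _ (isInvertible_twist r k (-(m : ℤ)))
  refine CL.subsingleton_of_iso (twistMulIso r k (-((r : ℤ) + 1 + m₀')) (-(m : ℤ))
    (-((r : ℤ) + 1 + m₀') + -(m : ℤ)) rfl).symm i ?_
  apply subsingleton_HH_twist_all r k _ i
  · rintro ⟨-, h'⟩
    have : (0 : ℤ) ≤ (r : ℤ) := Int.natCast_nonneg r
    have : (0 : ℤ) ≤ (m₀' : ℤ) := Int.natCast_nonneg m₀'
    have : (0 : ℤ) ≤ (m : ℤ) := Int.natCast_nonneg m
    omega
  · rintro ⟨h', -⟩; omega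

theorem main_om : ∀ (j : ℕ) (F : (Proj (CohB1.polyGrading r k)).Modules), Coh.IsCoh F →
    ∀ i : ℕ, i + j = r →
    (Van r k F i → ∀ x : Proj (CohB1.polyGrading r k),
      Subsingleton (Ext ((DerSch.stalkFunctor (Proj (CohB1.polyGrading r k)) x).obj F)
        ((DerSch.stalkFunctor (Proj (CohB1.polyGrading r k)) x).obj (om r k)) j)) ∧
    ((∀ x : Proj (CohB1.polyGrading r k),
      IsClosed ({x} : Set (Proj (CohB1.polyGrading r k))) →
      Subsingleton (Ext ((DerSch.stalkFunctor (Proj (CohB1.polyGrading r k)) x).obj F)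
        ((DerSch.stalkFunctor (Proj (CohB1.polyGrading r k)) x).obj (om r k)) j)) →
      Van r k F i) := by
  intro j
  induction j with
  | zero =>
    intro F hF i hi
    have hir : i = r := by omega
    subst hir
    constructor
    · intro hv x
      rw [subsingleton_ext_zero_stalk_iff]
      exact ext_zero_of_van F hF hv x
    · intro h
      apply van_of_ext_zero F hF
      intro x hx
      exact (subsingleton_ext_zero_stalk_iff F _ x).mp (h x hx)
  | succ j ih =>
    intro F hF i hi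
    obtain ⟨m₀', N, p, hp, hK, hEc⟩ := exists_resolution r k F hF
    have hS : (ShortComplex.mk (kernel.ι p) p (kernel.condition p)).ShortExact :=
      { exact := ShortComplex.exact_of_f_is_kernel _ (kernelIsKernel p)
        mono_f := inferInstanceAs (Mono (kernel.ι p))
        epi_g := hp }
    have hElf : FlatMod.IsFinLocFree (∐ fun _ : Fin N =>
        twist (CohB1.polyGrading r k) (-((r : ℤ) + 1 + m₀'))) :=
      Groth.Agent.LD.SC.isFinLocFree_sigma_of_isInvertible _ (isInvertible_twist r k _) N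
    cases j with
    | zero =>
      constructor
      · intro hv x
        refine (subsingleton_ext_one_stalk_iff hS hElf (om r k) x).mpr ?_
        exact fun θ => extend_of_van hS hK hEc i hi hv x θ
      · intro h
        refine van_of_extend hS hK hEc i hi
          (fun m => subsingleton_HH_E r k m₀' N m i (by omega)) ?_
        intro x hx
        exact (subsingleton_ext_one_stalk_iff hS hElf (om r k) x).mp (h x hx)
    | succ j' =>
      obtain ⟨ih1, ih2⟩ := ih (kernel p) hK (i + 1) (by omega)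
      have hshift : Van r k F i ↔ Van r k (kernel p) (i + 1) := by
        constructor
        · rintro ⟨m₀, hm₀⟩
          refine ⟨m₀, fun m hm => ?_⟩
          have hT := QC.shortExact_tensorMap_of_isInvertible hS _
            (isInvertible_twist r k (-(m : ℤ)))
          exact CL.subsingleton_left hT i (hm₀ m hm)
            (subsingleton_HH_E r k m₀' N m (i + 1) (by omega))
        · rintro ⟨m₀, hm₀⟩
          refine ⟨m₀, fun m hm => ?_⟩
          have hT := QC.shortExact_tensorMap_of_isInvertible hS _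
            (isInvertible_twist r k (-(m : ℤ)))
          exact CL.subsingleton_right hT i
            (subsingleton_HH_E r k m₀' N m i (by omega)) (hm₀ m hm)
      constructor
      · intro hv x
        exact (subsingleton_ext_succ_stalk_iff hS hElf x _ j').mpr (ih1 (hshift.mp hv) x)
      · intro h
        apply hshift.mpr
        apply ih2
        intro x hx
        exact (subsingleton_ext_succ_stalk_iff hS hElf x _ j').mp (h x hx)

/-- changing the target of the `Ext` of the stalks from `ω_x` to `O_x`. -/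
theorem ext_om_iff (F : (Proj (CohB1.polyGrading r k)).Modules)
    (x : Proj (CohB1.polyGrading r k)) (j : ℕ) :
    Subsingleton (Ext ((DerSch.stalkFunctor (Proj (CohB1.polyGrading r k)) x).obj F)
        ((DerSch.stalkFunctor (Proj (CohB1.polyGrading r k)) x).obj (om r k)) j) ↔
      Subsingleton (Ext (ModuleCat.of ((Proj (CohB1.polyGrading r k)).presheaf.stalk x)
          (F.presheaf.stalk x))
        (ModuleCat.of ((Proj (CohB1.polyGrading r k)).presheaf.stalk x)
          ((Proj (CohB1.polyGrading r k)).presheaf.stalk x)) j) := by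
  obtain ⟨e⟩ := nonempty_stalk_equiv_of_isInvertible (om r k) (isInvertible_twist r k _) x
  let ι : (DerSch.stalkFunctor (Proj (CohB1.polyGrading r k)) x).obj (om r k) ≅
      ModuleCat.of ((Proj (CohB1.polyGrading r k)).presheaf.stalk x)
        ((Proj (CohB1.polyGrading r k)).presheaf.stalk x) := e.toModuleIso
  constructor
  · intro h
    exact (QC.extEquivRight ((DerSch.stalkFunctor (Proj (CohB1.polyGrading r k)) x).obj F)
      ι j).symm.toEquiv.subsingleton
  · intro h
    haveI : Subsingleton (Ext ((DerSch.stalkFunctor (Proj (CohB1.polyGrading r k)) x).obj F)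
        (ModuleCat.of ((Proj (CohB1.polyGrading r k)).presheaf.stalk x)
          ((Proj (CohB1.polyGrading r k)).presheaf.stalk x)) j) := h
    exact (QC.extEquivRight ((DerSch.stalkFunctor (Proj (CohB1.polyGrading r k)) x).obj F)
      ι j).toEquiv.subsingleton

/-- **the converse depth criterion on `P^r_k`.** -/
theorem main (F : (Proj (CohB1.polyGrading r k)).Modules) (hF : Coh.IsCoh F) (i j : ℕ)
    (hij : i + j = r) :
    (Van r k F i → ∀ x : Proj (CohB1.polyGrading r k),
      Subsingleton (Ext (ModuleCat.of ((Proj (CohB1.polyGrading r k)).presheaf.stalk x)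
          (F.presheaf.stalk x))
        (ModuleCat.of ((Proj (CohB1.polyGrading r k)).presheaf.stalk x)
          ((Proj (CohB1.polyGrading r k)).presheaf.stalk x)) j)) ∧
    ((∀ x : Proj (CohB1.polyGrading r k),
      IsClosed ({x} : Set (Proj (CohB1.polyGrading r k))) →
      Subsingleton (Ext (ModuleCat.of ((Proj (CohB1.polyGrading r k)).presheaf.stalk x)
          (F.presheaf.stalk x))
        (ModuleCat.of ((Proj (CohB1.polyGrading r k)).presheaf.stalk x)
          ((Proj (CohB1.polyGrading r k)).presheaf.stalk x)) j)) →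
      Van r k F i) := by
  obtain ⟨h1, h2⟩ := main_om r k j F hF i hij
  exact ⟨fun hv x => (ext_om_iff r k F x j).mp (h1 hv x),
    fun h => h2 (fun x hx => (ext_om_iff r k F x j).mpr (h x hx))⟩

end Groth.Agent.LD.PD.HA
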