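import Groth.Agent.Lib.Lead.PD.Depth
import Groth.Agent.Lib.Lead.PD.PushDepth
import Groth.Agent.Lib.Lead.PN.ClosedSubGG
import Groth.Agent.Lib.Lead.PN.ClosedSubEuler
import Groth.Agent.Lib.Lead.PN.SerreDualExt
import Groth.Agent.Lib.Lead.PN.RegExt
import Groth.Agent.Lib.Lead.QC.InvEpi
import Groth.Agent.Lib.Lead.QC.PullInv
import Groth.Agent.Lib.Lead.QC.UnitIso
import Groth.Agent.Lib.Lead.PF.LocalVanish
import Groth.Agent.Lib.Helper5.GG.FinGen

/-! # Closed subschemes of projective space over a field: vanishing of the cohomology of large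
negative twists in terms of depth, and duality for Cohen–Macaulay subschemes. -/

set_option autoImplicit false
universe u
open CategoryTheory Limits Opposite Abelian AlgebraicGeometry TopologicalSpace

namespace Groth.Agent.LD.PD
open Twist TW Groth.Agent.LD.QC Groth.Agent.LD Groth.Agent.LD.PN

attribute [-instance] Groth.Agent.LD.QC.stalkModule

lemma depth_eq_top_of_subsingleton {R : Type u} [CommRing R] [IsLocalRing R] (M : Type u)
    [AddCommGroup M] [Module R M] [Subsingleton M] : LocCoh.depth R M = ⊤ := by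
  unfold LocCoh.depth LocCoh.idealDepth
  rw [if_pos]
  exact Submodule.eq_top_iff'.mpr (fun x => by rw [Subsingleton.elim x 0]; exact zero_mem _)

lemma exists_uniform_bound (n : ℕ) (P : ℕ → ℕ → Prop)
    (h : ∀ j, j < n → ∃ m₀, ∀ m, m₀ ≤ m → P j m) :
    ∃ m₀, ∀ j, j < n → ∀ m, m₀ ≤ m → P j m := by
  induction n with
  | zero => exact ⟨0, fun j hj => absurd hj (Nat.not_lt_zero j)⟩
  | succ n ih =>
    obtain ⟨a, ha⟩ := ih (fun j hj => h j (Nat.lt_succ_of_lt hj))
    obtain ⟨b, hb⟩ := h n (Nat.lt_succ_self n)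
    refine ⟨max a b, fun j hj m hm => ?_⟩
    rcases Nat.lt_succ_iff_lt_or_eq.mp hj with hj' | rfl
    · exact ha j hj' m (le_trans (le_max_left a b) hm)
    · exact hb m (le_trans (le_max_right a b) hm)

variable (N : ℕ) (k : Type u) [Field k] {X : Scheme.{u}}
  (i : X ⟶ Proj (CohB1.polyGrading N k)) [IsClosedImmersion i]

/-- a point of a closed subscheme whose image is closed is closed. -/
lemma isClosed_singleton_of_image (x : X)
    (hy : IsClosed ({i x} : Set (Proj (CohB1.polyGrading N k)))) : IsClosed ({x} : Set X) := by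
  have h : ({x} : Set X) = i ⁻¹' {i x} := by
    ext z
    simp only [Set.mem_singleton_iff, Set.mem_preimage]
    exact ⟨fun h => by rw [h], fun h => i.isClosedEmbedding.injective h⟩
  rw [h]
  exact hy.preimage i.continuous

/-- **vanishing of `H^j(X, F(-m))`, `m ≫ 0`, `j ≤ d`, for a coherent module `F` on a closed
subscheme `X` of `P^N_k` with depth at least `d + 1` at all closed points.** -/
theorem vanish_on_of_depth (F : X.Modules) (hF : Coh.IsCoh F) (d : ℕ)
    (hdepth : ∀ x : X, IsClosed ({x} : Set X) →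
      ((d + 1 : ℕ) : ℕ∞) ≤ LocCoh.depth (X.presheaf.stalk x) (F.presheaf.stalk x))
    (j : ℕ) (hj : j ≤ d) : ∃ m₀ : ℕ, ∀ m : ℕ, m₀ ≤ m →
      Subsingleton (Coh.HH X (twOn N k i F (-(m : ℤ))) j) := by
  haveI : F.IsQuasicoherent := hF.1
  have hG := isCoh_push N k i F hF
  have hdP : ∀ y : Proj (CohB1.polyGrading N k),
      IsClosed ({y} : Set (Proj (CohB1.polyGrading N k))) →
      ((d + 1 : ℕ) : ℕ∞) ≤ LocCoh.depth ((Proj (CohB1.polyGrading N k)).presheaf.stalk y)
        (((Scheme.Modules.pushforward i).obj F).presheaf.stalk y) := by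
    intro y hy
    by_cases hyr : y ∈ Set.range i
    · obtain ⟨x, rfl⟩ := hyr
      have hx : IsClosed ({x} : Set X) := isClosed_singleton_of_image N k i x hy
      haveI : Module.Finite (X.presheaf.stalk x) (F.presheaf.stalk x) :=
        Groth.Agent.H1.CohLen.finite_stalk F hF.2 x
      have h : LocCoh.depth ((Proj (CohB1.polyGrading N k)).presheaf.stalk (i x))
          (((Scheme.Modules.pushforward i).obj F).presheaf.stalk (i x)) =
          LocCoh.depth (X.presheaf.stalk x) (F.presheaf.stalk x) :=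
        depth_stalk_push_closedImmersion i F x
      exact (hdepth x hx).trans (le_of_eq h.symm)
    · haveI : Subsingleton (((Scheme.Modules.pushforward i).obj F).presheaf.stalk y) :=
        Groth.Agent.H1.CohLen.subsingleton_stalk_push_of_notMem_closure i F y (by
          rw [i.isClosedEmbedding.isClosed_range.closure_eq]; exact hyr)
      rw [depth_eq_top_of_subsingleton]
      exact le_top
  obtain ⟨m₀, hm₀⟩ := vanish_of_depth ((Scheme.Modules.pushforward i).obj F) hG d hdP j hj
  exact ⟨m₀, fun m hm => (subsingleton_HH_twOn_iff N k i F (-(m : ℤ)) j).mpr (hm₀ m hm)⟩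

/-- `i^* O(a) ⊗ i^* O(b) ≅ O_X` for `a + b = 0`. -/
noncomputable def pullTwistInvIso (a b : ℤ) (h : a + b = 0) :
    CohB1.tensorMod ((Scheme.Modules.pullback i).obj (twist (CohB1.polyGrading N k) a))
      ((Scheme.Modules.pullback i).obj (twist (CohB1.polyGrading N k) b)) ≅ QC.unitMod X :=
  haveI := QC.qc_of_isInvertible _ (isInvertible_twist N k a)
  haveI := QC.qc_of_isInvertible _ (isInvertible_twist N k b)
  haveI := QC.isIso_pbTensorHom i _ _ (isInvertible_twist N k a) (isInvertible_twist N k b)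
  (asIso (QC.pbTensorHom i (twist (CohB1.polyGrading N k) a)
      (twist (CohB1.polyGrading N k) b))).symm ≪≫
    (Scheme.Modules.pullback i).mapIso
      (twistMulIso N k a b 0 h ≪≫ twistZeroIso (CohB1.polyGrading N k)) ≪≫
    QC.pullbackUnitIso i

/-- the depth of the structure module at a closed point of a Cohen–Macaulay scheme. -/
lemma depth_unit_of_CM (n : ℕ) (x : X)
    (hcm : LocCoh.IsCohenMacaulayLocalRing (X.presheaf.stalk x))
    (hdim : ringKrullDim (X.presheaf.stalk x) = n) :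
    LocCoh.depth (X.presheaf.stalk x) ((QC.unitMod X).presheaf.stalk x) = (n : ℕ∞) := by
  obtain ⟨e⟩ : Nonempty ((QC.unitMod X).presheaf.stalk x ≃ₗ[X.presheaf.stalk x]
      X.presheaf.stalk x) := nonempty_unitStalkEquiv x
  rw [Groth.Agent.H1.AB.depth_eq_of_linearEquiv e]
  have h1 := hcm.supportDim_eq_depth
  rw [Module.supportDim_self_eq_ringKrullDim, hdim] at h1
  have h2 : ((n : ℕ∞) : WithBot ℕ∞) =
      ((LocCoh.depth (X.presheaf.stalk x) (X.presheaf.stalk x) : ℕ∞) : WithBot ℕ∞) := by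
    rw [← h1]; rfl
  exact (WithBot.coe_injective h2).symm

section Duality

variable [X.Over (Spec (CommRingCat.of k))] [HasExt.{u} X.Modules]

include i in
/-- **duality on a Cohen–Macaulay closed subscheme of projective space**: a dualizing pair
`(ω, t)` in degree `n` induces isomorphisms `Ext^e(F, ω) ≃ H^{n-e}(F)^*` for coherent `F`. -/
theorem duality_on (n : ℕ)
    (hCM : ∀ x : X, IsClosed ({x} : Set X) →
      LocCoh.IsCohenMacaulayLocalRing (X.presheaf.stalk x) ∧
        ringKrullDim (X.presheaf.stalk x) = n)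
    (ω : X.Modules) (hω : Coh.IsCoh ω) (t : Coh.HH X ω n →ₗ[k] k)
    (hdual : ∀ F : X.Modules, Coh.IsCoh F → CL.IsDualFor k n ω t F)
    (F : X.Modules) (hF : Coh.IsCoh F) (e : ℕ) :
    (∀ j, j + e = n → Nonempty (Ext F ω e ≃ₗ[k] Module.Dual k (Coh.HH X F j))) ∧
      (n < e → Subsingleton (Ext F ω e)) := by
  refine ext_dual_of_resolutions k ω n t (fun F => Coh.IsCoh F) hdual ?_ e F hF
  intro F hF
  haveI : F.IsQuasicoherent := hF.1
  haveI : IsLocallyNoetherian X := LocallyOfFiniteType.isLocallyNoetherian i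
  haveI : CompactSpace X := QuasiCompact.compactSpace_of_compactSpace i
  -- Serre vanishing for `ω` and `F`
  obtain ⟨d₁, hd₁⟩ := serre_vanishing_on N k i ω hω
  obtain ⟨d₂, hd₂⟩ := serre_vanishing_on N k i F hF
  -- vanishing of the cohomology of large negative twists of `O_X`
  obtain ⟨m₀, hm₀⟩ : ∃ m₀ : ℕ, ∀ j : ℕ, j < n → ∀ m : ℕ, m₀ ≤ m →
      Subsingleton (Coh.HH X (twOn N k i (QC.unitMod X) (-(m : ℤ))) j) := by
    apply exists_uniform_bound n
      (fun j m => Subsingleton (Coh.HH X (twOn N k i (QC.unitMod X) (-(m : ℤ))) j))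
    intro j hj
    have hn1 : n - 1 + 1 = n := by omega
    refine vanish_on_of_depth N k i (QC.unitMod X) (PF.isCoh_unitMod X) (n - 1) (fun x hx => ?_)
      j (by omega)
    obtain ⟨hcm, hdim⟩ := hCM x hx
    rw [depth_unit_of_CM n x hcm hdim, hn1]
  obtain ⟨d, hdd₁, hdd₂, hdm⟩ : ∃ d : ℕ, d₁ ≤ (d : ℤ) ∧ d₂ + N ≤ (d : ℤ) ∧ m₀ ≤ d :=
    ⟨(max d₁ (d₂ + N)).toNat + m₀, by omega, by omega, by omega⟩
  -- global generation of `F(d)`
  have hgg : Curv2.IsGloballyGenerated (twOn N k i F (d : ℤ)) := by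
    refine isGloballyGenerated_twOn N k i F hF (d : ℤ) (fun q hq => ?_)
    by_cases hqN : q ≤ N
    · exact hd₂ ((d : ℤ) - q) (by omega) q (by omega)
    · refine (subsingleton_HH_twOn_iff N k i F ((d : ℤ) - q) q).mpr ?_
      haveI : (kG N k ((Scheme.Modules.pushforward i).obj F) ((d : ℤ) - q)).IsQuasicoherent :=
        (isCoh_twist N k _ (isCoh_push N k i F hF) ((d : ℤ) - q)).1
      exact subsingleton_HH_of_lt N k _ q (by omega)
  have hFd := isCoh_twOn N k i F hF (d : ℤ)
  haveI : (twOn N k i F (d : ℤ)).IsQuasicoherent := hFd.1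
  obtain ⟨K, q, hq⟩ := Groth.Agent.H5.GG.exists_epi_freeMod_of_isGloballyGenerated
    (twOn N k i F (d : ℤ)) hFd.2 hgg
  obtain ⟨Ld, hLdef⟩ : ∃ Ld, Ld = (Scheme.Modules.pullback i).obj
    (twist (CohB1.polyGrading N k) (d : ℤ)) := ⟨_, rfl⟩
  obtain ⟨Md, hMdef⟩ : ∃ Md, Md = (Scheme.Modules.pullback i).obj
    (twist (CohB1.polyGrading N k) (-(d : ℤ))) := ⟨_, rfl⟩
  have hLd : PicF.IsInvertible Ld := by
    rw [hLdef]; exact QC.isInvertible_pullback i (isInvertible_twist N k _)
  have hMd : PicF.IsInvertible Md := by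
    rw [hMdef]; exact QC.isInvertible_pullback i (isInvertible_twist N k _)
  haveI := QC.qc_of_isInvertible _ hLd
  haveI := QC.qc_of_isInvertible _ hMd
  have ε : CohB1.tensorMod Ld Md ≅ QC.unitMod X := by
    rw [hLdef, hMdef]; exact pullTwistInvIso N k i (d : ℤ) (-(d : ℤ)) (by ring)
  have ε' : CohB1.tensorMod Md Ld ≅ QC.unitMod X := by
    rw [hLdef, hMdef]; exact pullTwistInvIso N k i (-(d : ℤ)) (d : ℤ) (by ring)
  have hq' : ∃ q' : FlatMod.freeMod X K ⟶ CohB1.tensorMod F Ld, Epi q' := by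
    rw [hLdef]; exact ⟨q, hq⟩
  obtain ⟨q', hq'⟩ := hq'
  obtain ⟨p, hp⟩ := QC.exists_epi_sigma_of_inverse F Ld Md hMd ε q' hq'
  have hEqc : (∐ fun _ : Fin K => Md).IsQuasicoherent := QC.qc_sigma_fin _ K
  have hEft : (∐ fun _ : Fin K => Md).IsFiniteType :=
    QC.isFiniteType_sigma_fin _ (QC.isFiniteType_of_isInvertible _ hMd) K
  have hKqc : (kernel p).IsQuasicoherent := QC.qc_kernel p hEqc hF.1
  refine ⟨kernel p, ∐ fun _ : Fin K => Md, kernel.ι p, p, kernel.condition p, ?_,
    ⟨hKqc, QC.isFiniteType_of_mono (kernel.ι p) hKqc hEqc hEft⟩, ⟨hEqc, hEft⟩, ?_, ?_⟩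
  · exact { exact := ShortComplex.exact_of_f_is_kernel _ (kernelIsKernel p)
            mono_f := inferInstanceAs (Mono (kernel.ι p))
            epi_g := hp }
  · intro j
    apply subsingleton_ext_sigma_left
    obtain ⟨eq⟩ := QC.nonempty_ext_invertible_equiv Md Ld ε' ω (j + 1)
    haveI : Subsingleton (Coh.HH X (CohB1.tensorMod ω Ld) (j + 1)) := by
      rw [hLdef]; exact hd₁ (d : ℤ) hdd₁ (j + 1) (Nat.succ_pos j)
    exact eq.toEquiv.subsingleton
  · intro j hj
    apply subsingleton_HH_sigma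
    have h : Subsingleton (Coh.HH X (CohB1.tensorMod (QC.unitMod X) Md) j) := by
      rw [hMdef]; exact hm₀ j hj d hdm
    exact CL.subsingleton_of_iso (QC.tensorCommGen (QC.unitMod X) Md ≪≫ SecTwist.unitorR Md) j h

end Duality

end Groth.Agent.LD.PD
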