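import Mathlib
import Groth.Agent.Lib.Lead.PD.Sub
import Groth.Agent.Lib.Lead.PD.TwistStalk
import Groth.Agent.Lib.Lead.PN.AmpleSerreRel
import Groth.Agent.Lib.Lead.QC.NegTwist
import Groth.Agent.Lib.Lead.QC.TwistEquiv
import Groth.Agent.Lib.Lead.QC.Mon

/-! # Vanishing of the cohomology of large negative powers of an ample invertible module,
in terms of the depth at closed points. -/

set_option autoImplicit false
universe u
open CategoryTheory Limits Opposite Abelian AlgebraicGeometry TopologicalSpace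

namespace Groth.Agent.LD.PD
open Twist TW Groth.Agent.LD.QC Groth.Agent.LD Groth.Agent.LD.PN Groth.Agent.LD.PN.AmS

attribute [-instance] Groth.Agent.LD.QC.stalkModule

section Inverse
variable {X : Scheme.{u}}

/-- the left unitor. -/
noncomputable def unitorL (B : X.Modules) : CohB1.tensorMod (QC.unitMod X) B ≅ B :=
  QC.tensorCommGen (QC.unitMod X) B ≪≫ SecTwist.unitorR B

/-- inverses are unique. -/
noncomputable def inverseUniq {A B B' : X.Modules} (e : CohB1.tensorMod A B ≅ QC.unitMod X)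
    (e' : CohB1.tensorMod A B' ≅ QC.unitMod X) : B ≅ B' :=
  have adj1 : QC.twF A ⊣ QC.twF B := (QC.twEquiv A B e).toAdjunction
  have adj2 : QC.twF A ⊣ QC.twF B' := (QC.twEquiv A B' e').toAdjunction
  (unitorL B).symm ≪≫ (adj1.rightAdjointUniq adj2).app (QC.unitMod X) ≪≫ unitorL B'

/-- `L^d ⊗ M^d ≅ O` when `L ⊗ M ≅ O`. -/
theorem nonempty_pow_inverse (L M : X.Modules) (hL : PicF.IsInvertible L)
    (hM : PicF.IsInvertible M) (ε : CohB1.tensorMod L M ≅ QC.unitMod X) (d : ℕ) :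
    Nonempty (CohB1.tensorMod (CohB1.tensorPow L d) (CohB1.tensorPow M d) ≅ QC.unitMod X) := by
  haveI : (QC.unitMod X).IsQuasicoherent := (PF.isCoh_unitMod X).1
  have h := NegTwist.nonempty_psi L M hL hM ε (QC.unitMod X) 0 d
  rw [Nat.zero_add] at h
  obtain ⟨ψ⟩ := h
  -- `ψ : (O ⊗ M^d) ⊗ L^d ≅ O ⊗ M^0`
  exact ⟨QC.tensorCommGen _ _ ≪≫ QC.tensorIso' (unitorL _).symm (Iso.refl _) ≪≫ ψ ≪≫
    SecTwist.unitorR _⟩

end Inverse

variable (N : ℕ) (k : Type u) [Field k] {X : Scheme.{u}}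
  (i : X ⟶ Proj (CohB1.polyGrading N k)) [IsClosedImmersion i]

/-- `O(-q) ≅ O(-1)^{⊗ q}`. -/
theorem nonempty_twist_neg_iso_tensorPow (q : ℕ) :
    Nonempty (twist (CohB1.polyGrading N k) (-(q : ℤ)) ≅
      CohB1.tensorPow (twist (CohB1.polyGrading N k) (-1)) q) := by
  induction q with
  | zero => exact ⟨twistCongr (by simp) ≪≫ twistZeroIso (CohB1.polyGrading N k)⟩
  | succ q ih =>
    obtain ⟨e⟩ := ih
    exact ⟨(twistMulIso N k (-(q : ℤ)) (-1) (-((q + 1 : ℕ) : ℤ)) (by push_cast; ring)).symm ≪≫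
      QC.tensorIso' e (Iso.refl _)⟩

/-- **vanishing for large negative powers of a very ample module**, in terms of depth. -/
theorem vanish_negPow_veryAmple (M : X.Modules) (hM : PicF.IsInvertible M) (d : ℕ) (hd : 0 < d)
    (e : CohB1.tensorPow M d ≅
      (Scheme.Modules.pullback i).obj (twist (CohB1.polyGrading N k) (-1)))
    (F : X.Modules) (hF : Coh.IsCoh F) (δ : ℕ)
    (hdepth : ∀ x : X, IsClosed ({x} : Set X) →
      ((δ + 1 : ℕ) : ℕ∞) ≤ LocCoh.depth (X.presheaf.stalk x) (F.presheaf.stalk x))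
    (j : ℕ) (hj : j ≤ δ) :
    ∃ n₀ : ℕ, ∀ n : ℕ, n₀ ≤ n →
      Subsingleton (Coh.HH X (CohB1.tensorMod F (CohB1.tensorPow M n)) j) := by
  haveI : F.IsQuasicoherent := hF.1
  haveI : M.IsQuasicoherent := qc_of_isInvertible M hM
  have hcoh : ∀ r : ℕ, Coh.IsCoh (CohB1.tensorMod F (CohB1.tensorPow M r)) := fun r =>
    ⟨tensorMod_isQuasicoherent _ _,
      isFiniteType_tensorMod_of_isInvertible F hF.2 _ (isInvertible_tensorPow hM r)⟩
  have hdep : ∀ r : ℕ, ∀ x : X, IsClosed ({x} : Set X) →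
      ((δ + 1 : ℕ) : ℕ∞) ≤ LocCoh.depth (X.presheaf.stalk x)
        ((CohB1.tensorMod F (CohB1.tensorPow M r)).presheaf.stalk x) := by
    intro r x hx
    have h : LocCoh.depth (X.presheaf.stalk x)
        ((CohB1.tensorMod F (CohB1.tensorPow M r)).presheaf.stalk x) =
        LocCoh.depth (X.presheaf.stalk x) (F.presheaf.stalk x) :=
      depth_stalk_tensor F (CohB1.tensorPow M r) (isInvertible_tensorPow hM r) x
    exact (hdepth x hx).trans (le_of_eq h.symm)
  choose Q hQ using fun r : ℕ =>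
    vanish_on_of_depth N k i (CohB1.tensorMod F (CohB1.tensorPow M r)) (hcoh r) δ (hdep r) j hj
  let Q' : ℕ := (Finset.range d).sup fun r => Q r
  refine ⟨d * Q', fun n hn => ?_⟩
  have hq : Q' ≤ n / d := (Nat.le_div_iff_mul_le hd).mpr (by rw [Nat.mul_comm]; exact hn)
  have hr : n % d < d := Nat.mod_lt n hd
  have hQr : Q (n % d) ≤ n / d :=
    (Finset.le_sup (f := fun r => Q r) (Finset.mem_range.mpr hr)).trans hq
  have hvan := hQ (n % d) (n / d) hQr
  -- the module isomorphism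
  obtain ⟨e1⟩ := nonempty_twist_neg_iso_tensorPow N k (n / d)
  have e2 : (Scheme.Modules.pullback i).obj (twist (CohB1.polyGrading N k) (-((n / d : ℕ) : ℤ))) ≅
      CohB1.tensorPow (CohB1.tensorPow M d) (n / d) :=
    (Scheme.Modules.pullback i).mapIso e1 ≪≫
      pbTensorPowIso i _ (isInvertible_twist N k (-1)) (n / d) ≪≫ tensorPowCongr e.symm (n / d)
  have m1 : IsMon F M (twOn N k i (CohB1.tensorMod F (CohB1.tensorPow M (n % d)))
      (-((n / d : ℕ) : ℤ))) (1 + 0 + (n / d) * 0) (0 + n % d + (n / d) * d) :=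
    (((isMon_left F M).tensor (isMon_powRight F M (n % d))).tensor
      ((isMon_powRight F M d).pow (n / d))).of_iso (tensorIso' (Iso.refl _) e2.symm)
  have m2 : IsMon F M (CohB1.tensorMod F (CohB1.tensorPow M n)) (1 + 0) (0 + n) :=
    (isMon_left F M).tensor (isMon_powRight F M n)
  have hidx : 0 + n % d + (n / d) * d = 0 + n := by
    rw [Nat.zero_add, Nat.zero_add, Nat.mul_comm]; exact Nat.mod_add_div n d
  obtain ⟨e3⟩ := (m1.cast (by simp) hidx).iso m2
  exact Groth.Agent.LD.AS.subsingleton_HH_of_iso' e3 j hvan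

/-- **vanishing of `H^j(X, F ⊗ L^{-n})`, `n ≫ 0`, `j ≤ δ`, for `L` ample on a proper scheme over
a field and `F` coherent of depth at least `δ + 1` at all closed points.** -/
theorem vanish_negPow_ample (X : Scheme.{u}) [X.Over (Spec (CommRingCat.of k))]
    [IsProper (X ↘ Spec (CommRingCat.of k))] (L : X.Modules) (hA : CohB1.IsAmple L)
    (M : X.Modules) (ε : CohB1.tensorMod L M ≅ QC.unitMod X)
    (F : X.Modules) (hF : Coh.IsCoh F) (δ : ℕ)
    (hdepth : ∀ x : X, IsClosed ({x} : Set X) →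
      ((δ + 1 : ℕ) : ℕ∞) ≤ LocCoh.depth (X.presheaf.stalk x) (F.presheaf.stalk x))
    (j : ℕ) (hj : j ≤ δ) :
    ∃ n₀ : ℕ, ∀ n : ℕ, n₀ ≤ n →
      Subsingleton (Coh.HH X (CohB1.tensorMod F (CohB1.tensorPow M n)) j) := by
  have hL := hA.1
  have hM : PicF.IsInvertible M := QC.isInvertible_of_tensor_iso hL ε
  obtain ⟨n₀, hn₀⟩ := (Groth.Agent.H5.VAmple.ample_iff_some_power_veryAmple
    (X ↘ Spec (CommRingCat.of k)) L hL).2 hA
  obtain ⟨n, i, hi, hcomp, ⟨e⟩⟩ := hn₀ (max n₀ 1) (le_max_left _ _)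
  haveI := hi
  haveI := Groth.Agent.H5.AG.isProper_toBase n (Spec (CommRingCat.of k))
  have hcomp' : i ≫ CohB1.ProjSpaceOver.toBase n (Spec (CommRingCat.of k)) =
      X ↘ Spec (CommRingCat.of k) := hcomp
  haveI : IsProper (i ≫ CohB1.ProjSpaceOver.toBase n (Spec (CommRingCat.of k))) := by
    rw [hcomp']; infer_instance
  haveI := isClosedImmersion_of_comp_proper i
    (CohB1.ProjSpaceOver.toBase n (Spec (CommRingCat.of k)))
  let i' : X ⟶ Proj (CohB1.polyGrading n k) := i ≫ (OB.bridge n k).inv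
  haveI : IsClosedImmersion i' := inferInstanceAs (IsClosedImmersion (i ≫ (OB.bridge n k).inv))
  have e' : CohB1.tensorPow L (max n₀ 1) ≅
      (Scheme.Modules.pullback i').obj (Twist.twist (CohB1.polyGrading n k) 1) :=
    e ≪≫ (Scheme.Modules.pullback i).mapIso (bridgeTwistIsoInv n k 1).symm ≪≫
      (Scheme.Modules.pullbackComp i (OB.bridge n k).inv).app _
  -- `M^d ≅ i^* O(-1)`
  obtain ⟨εd⟩ := nonempty_pow_inverse L M hL hM ε (max n₀ 1)
  have ε1 : CohB1.tensorMod (CohB1.tensorPow L (max n₀ 1))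
      ((Scheme.Modules.pullback i').obj (twist (CohB1.polyGrading n k) (-1))) ≅ QC.unitMod X :=
    QC.tensorIso' e' (Iso.refl _) ≪≫ pullTwistInvIso n k i' 1 (-1) (by ring)
  have eM : CohB1.tensorPow M (max n₀ 1) ≅
      (Scheme.Modules.pullback i').obj (twist (CohB1.polyGrading n k) (-1)) :=
    inverseUniq εd ε1
  exact vanish_negPow_veryAmple n k i' M hM (max n₀ 1)
    (lt_of_lt_of_le Nat.one_pos (le_max_right _ _)) eM F hF δ hdepth j hj

end Groth.Agent.LD.PD
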