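import Mathlib
import Groth.Agent.Lib.Lead.PD.NegAmple
import Groth.Agent.Lib.Lead.QC.IdealMul
import Groth.Agent.Lib.Lead.QC.ZeroScheme
import Groth.Agent.Lib.Lead.QC.QuotSupp
import Groth.Agent.Lib.Lead.FF.H0Const
import Groth.Agent.Lib.Helper5.HensCouple.H
import Groth.Agent.Lib.Helper5.Glue.F
import Groth.Agent.Lib.Helper5.Lim.ModuleBridge

/-! # Connectedness of ample divisors (Enriques–Severi–Zariski / Hartshorne III.7.9)

On a connected proper scheme over a field all of whose local rings at closed points have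
depth `≥ 2`, the zero scheme of a regular section of an ample invertible module is connected. -/

set_option autoImplicit false
universe u
open CategoryTheory Limits Opposite Abelian AlgebraicGeometry TopologicalSpace

namespace Groth.Agent.LD.PD
open Groth.Agent.LD.QC Groth.Agent.LD Groth.Agent.LD.CL

attribute [-instance] Groth.Agent.LD.QC.stalkModule

section General

/-- a scheme whose ring of global functions is isomorphic, through a morphism to a connected
scheme, to that of the connected scheme, is connected. -/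
theorem connectedSpace_of_bijective_appTop {Z X : Scheme.{u}} [ConnectedSpace X] (f : Z ⟶ X)
    (hf : Function.Bijective f.appTop.hom) : ConnectedSpace Z := by
  obtain ⟨x⟩ : Nonempty X := inferInstance
  haveI : Nontrivial Γ(X, ⊤) := (X.presheaf.germ ⊤ x trivial).hom.domain_nontrivial
  haveI : Nontrivial Γ(Z, ⊤) := hf.1.nontrivial
  haveI : Nonempty Z := by
    by_contra h
    rw [not_nonempty_iff] at h
    exact not_subsingleton Γ(Z, ⊤) inferInstance
  haveI : PreconnectedSpace Z := by
    rw [preconnectedSpace_iff_clopen]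
    intro S hS
    obtain ⟨e, he, heS⟩ := Groth.Agent.H5.HensCouple.exists_idem_basicOpen_eq hS
    obtain ⟨e', rfl⟩ := hf.2 e
    have he' : IsIdempotentElem e' := by
      apply hf.1
      rw [map_mul]
      exact he
    rcases Groth.Agent.LD.FF.idem_trivial_of_connectedSpace X e' he' with h0 | h1
    · left
      rw [← heS, h0, map_zero, Scheme.basicOpen_zero]
      rfl
    · right
      rw [← heS, h1, map_one, Scheme.basicOpen_one]
      rfl
  exact { toPreconnectedSpace := inferInstance, toNonempty := inferInstance }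

/-- connectedness of a closed subscheme only depends on its support. -/
theorem connectedSpace_subscheme_of_support_eq {X : Scheme.{u}} (J J' : X.IdealSheafData)
    (h : J.support = J'.support) [ConnectedSpace J.subscheme] : ConnectedSpace J'.subscheme := by
  have h1 : _root_.IsConnected (Set.range J.subschemeι) :=
    isConnected_range J.subschemeι.continuous
  rw [Scheme.IdealSheafData.range_subschemeι, h, ← Scheme.IdealSheafData.range_subschemeι,
    ← Set.image_univ] at h1
  have hemb : Topology.IsEmbedding J'.subschemeι := J'.subschemeι.isClosedEmbedding.isEmbedding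
  rw [connectedSpace_iff_univ]
  exact ⟨Set.image_nonempty.mp h1.nonempty,
    (hemb.isInducing.isPreconnected_image).mp h1.isPreconnected⟩

end General

section Field

/-- if `H⁰` and `H¹` of the ideal module vanish, the global functions of `X` and of the closed
subscheme agree. -/
theorem bijective_appTop_subschemeι (k : Type u) [Field k] {X : Scheme.{u}}
    [X.Over (Spec (CommRingCat.of k))] (J : X.IdealSheafData)
    (h0 : Subsingleton (Coh.HH X (ClSub.idealMod J) 0))
    (h1 : Subsingleton (Coh.HH X (ClSub.idealMod J) 1)) :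
    Function.Bijective J.subschemeι.appTop.hom := by
  haveI : Epi (ClSub.toSubscheme J) := by
    apply Groth.Agent.H5.Lim.epi_of_surjective_affine_cover
    intro x
    obtain ⟨U, hU, hxU, -⟩ := exists_isAffineOpen_mem_and_subset (x := x) (U := ⊤) trivial
    exact ⟨U, hU, hxU, toSubscheme_app_surjective J ⟨U, hU⟩⟩
  let S : ShortComplex X.Modules :=
    ShortComplex.mk (ClSub.idealModι J) (ClSub.toSubscheme J) (kernel.condition _)
  have hS : S.ShortExact :=
    { exact := ShortComplex.exact_of_f_is_kernel _ (kernelIsKernel _)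
      mono_f := inferInstanceAs (Mono (kernel.ι (ClSub.toSubscheme J)))
      epi_g := inferInstanceAs (Epi (ClSub.toSubscheme J)) }
  haveI : Mono S.f := hS.mono_f
  refine ⟨?_, ?_⟩
  · rw [injective_iff_map_eq_zero]
    intro a ha
    have h2 : S.g.app ⊤ a = 0 := ha
    obtain ⟨t, ht⟩ := exact_sections' S hS.exact ⊤ a h2
    have ht0 : t = 0 := by
      apply (HH0Equiv (ClSub.idealMod J)).symm.injective
      exact Subsingleton.elim _ _
    rw [← ht, ht0, map_zero]
    rfl
  · intro b
    obtain ⟨x₃, hx₃⟩ : ∃ x₃ : Coh.HH X (ClSub.quotMod J) 0,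
        HH0Equiv (ClSub.quotMod J) x₃ = b := ⟨(HH0Equiv (ClSub.quotMod J)).symm b,
          AddEquiv.apply_symm_apply _ _⟩
    obtain ⟨x₂, hx₂⟩ := exact₃ hS k 0 x₃ (Subsingleton.elim _ _)
    refine ⟨HH0Equiv (unitMod X) x₂, ?_⟩
    have h3 := Groth.Agent.LD.NegTwist.HH0Equiv_HHmap k X (ClSub.toSubscheme J) x₂
    have hx₂' : HHmap k (ClSub.toSubscheme J) 0 x₂ = x₃ := hx₂
    rw [hx₂', hx₃] at h3
    exact h3.symm

end Field

section Main

variable (k : Type u) [Field k]

/-- the depth of the structure module. -/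
lemma depth_unitMod_ge_two {X : Scheme.{u}} (x : X)
    (h : 2 ≤ LocCoh.depth (X.presheaf.stalk x) (X.presheaf.stalk x)) :
    ((1 + 1 : ℕ) : ℕ∞) ≤
      LocCoh.depth (X.presheaf.stalk x) ((QC.unitMod X).presheaf.stalk x) := by
  have h2 : ((1 + 1 : ℕ) : ℕ∞) = 2 := by norm_num
  obtain ⟨e⟩ := nonempty_unitStalkEquiv x
  rw [Groth.Agent.H1.AB.depth_eq_of_linearEquiv e, h2]
  exact h

/-- **connectedness of ample divisors**: on a connected proper scheme over a field whose local
rings at closed points have depth `≥ 2`, the zero scheme of a regular section of an ample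
invertible module is connected. -/
theorem connectedSpace_zeroScheme (X : Scheme.{u}) [X.Over (Spec (CommRingCat.of k))]
    [IsProper (X ↘ Spec (CommRingCat.of k))] [ConnectedSpace X]
    (L : X.Modules) (hL : CohB1.IsAmple L) (s : Coh.structureModule X ⟶ L) (hs : Mono s)
    (hdepth : ∀ x : X, IsClosed ({x} : Set X) →
      2 ≤ LocCoh.depth (X.presheaf.stalk x) (X.presheaf.stalk x)) :
    ConnectedSpace ↥(PicF2.zeroScheme L s).subscheme := by
  haveI := hs
  obtain ⟨M, hM, ⟨ε⟩⟩ := Groth.Agent.H5.Glue.exists_inverse L hL.1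
  haveI : M.IsQuasicoherent := QC.qc_of_isInvertible M hM
  obtain ⟨φ⟩ := QC.nonempty_iso_idealMod_zeroScheme L M ε s hL.1 hM
  obtain ⟨𝓘, h𝓘⟩ : ∃ 𝓘 : X.IdealSheafData, 𝓘 = PicF2.zeroScheme L s := ⟨_, rfl⟩
  rw [← h𝓘] at φ ⊢
  have hI : PicF.IsInvertible (ClSub.idealMod 𝓘) := QC.isInvertible_of_iso φ hM
  have hdepth' : ∀ x : X, IsClosed ({x} : Set X) → ((1 + 1 : ℕ) : ℕ∞) ≤
      LocCoh.depth (X.presheaf.stalk x) ((QC.unitMod X).presheaf.stalk x) :=
    fun x hx => depth_unitMod_ge_two x (hdepth x hx)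
  obtain ⟨n₀, hn₀⟩ := vanish_negPow_ample k X L hL M ε (QC.unitMod X) (PF.isCoh_unitMod X) 1
    hdepth' 0 (by omega)
  obtain ⟨n₁, hn₁⟩ := vanish_negPow_ample k X L hL M ε (QC.unitMod X) (PF.isCoh_unitMod X) 1
    hdepth' 1 le_rfl
  obtain ⟨m, hm⟩ : ∃ m : ℕ, m = max n₀ n₁ := ⟨_, rfl⟩
  obtain ⟨ψ⟩ := QC.nonempty_tensorPow_iso_idealMod_pow 𝓘 hI m
  have iso : CohB1.tensorMod (QC.unitMod X) (CohB1.tensorPow M (m + 1)) ≅
      ClSub.idealMod (𝓘 ^ (m + 1)) :=
    Groth.Agent.LD.PD.unitorL _ ≪≫ QC.tensorPowCongr φ (m + 1) ≪≫ ψ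
  have h0 : Subsingleton (Coh.HH X (ClSub.idealMod (𝓘 ^ (m + 1))) 0) :=
    Groth.Agent.LD.AS.subsingleton_HH_of_iso' iso 0 (hn₀ (m + 1) (by omega))
  have h1 : Subsingleton (Coh.HH X (ClSub.idealMod (𝓘 ^ (m + 1))) 1) :=
    Groth.Agent.LD.AS.subsingleton_HH_of_iso' iso 1 (hn₁ (m + 1) (by omega))
  have hbij := bijective_appTop_subschemeι k (𝓘 ^ (m + 1)) h0 h1
  haveI : ConnectedSpace (𝓘 ^ (m + 1)).subscheme :=
    connectedSpace_of_bijective_appTop _ hbij
  exact connectedSpace_subscheme_of_support_eq (𝓘 ^ (m + 1)) 𝓘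
    (Scheme.IdealSheafData.support_pow_succ 𝓘 m)

end Main

end Groth.Agent.LD.PD
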