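import Mathlib
import Groth.Agent.Lib.Lead.PD.ConnZero
import Groth.Agent.Lib.Lead.QC.PullInv
import Groth.Agent.Lib.Lead.QC.InvBasis
import Groth.Agent.Lib.Lead.QC.ZeroScheme
import Groth.Agent.Lib.Lead.QC.TensorPow
import Groth.Agent.Lib.Lead.Curve.InvMono
import Groth.Agent.H4.Cok4
import Groth.Agent.H4.NormInt2
import Groth.Agent.Lib.Helper6.NZ2
import Groth.Agent.Lib.Helper5.CV.A
import Groth.Agent.Lib.Helper5.Curve2.E
import Groth.Agent.Lib.Helper5.Curve2.D
import Groth.Agent.Lib.Helper5.Curve6.Cliff
import Groth.Agent.Lib.Helper3.DimSch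
import Groth.Agent.Lib.Helper5.IntN.Veronese
import Groth.Agent.Lib.Helper5.AG.ProjProper
import Groth.Agent.Lib.Lead.PN.AmpleDev
import Groth.Agent.Lib.Helper2.PicCodim2
import Groth.Agent.Lib.Helper1.DimFormula3
import Groth.Agent.Lib.Lead.MirFlat
import Groth.Agent.Lib.Helper5.Glue.F

/-! # Connectedness of ample divisors on integral projective varieties

The support of the zero scheme of a section of an invertible module is the complement of the
locus where the section generates; using the normalization (finite, surjective, normal hence of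
depth `≥ 2` at closed points in dimension `≥ 2`) the connectedness theorem for ample divisors
on schemes with depth `≥ 2` gives connectedness on every integral proper scheme of dimension
`≥ 2` over a field. -/

set_option autoImplicit false
universe u
open CategoryTheory Limits AlgebraicGeometry TopologicalSpace Opposite

namespace Groth.Agent.LD.QC

variable {X : Scheme.{u}}

/-- **the support of the zero scheme of a section of an invertible module is the complement of
the locus where the section generates.** -/
theorem support_zeroScheme (L : X.Modules) (hL : PicF.IsInvertible L)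
    (s : Coh.structureModule X ⟶ L) :
    ((PicF2.zeroScheme L s).support : Set X) = ((CohB1.genLocus L s : X.Opens) : Set X)ᶜ := by
  obtain ⟨M, hM, ⟨ε⟩⟩ := Groth.Agent.H5.Glue.exists_inverse L hL
  haveI : M.IsQuasicoherent := QC.qc_of_isInvertible M hM
  ext x
  change x ∈ (PicF2.zeroScheme L s).support ↔ x ∉ CohB1.genLocus L s
  obtain ⟨U, hxU, e, he⟩ : ∃ U : X.affineOpens, x ∈ U.1 ∧
      ∃ e : Γ(L, U.1), IsBasisOver L U.1 e := by
    obtain ⟨U₀, e₀, hxU₀, he₀⟩ := (isInvertible_iff_exists_isBasisOver L).mp hL x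
    obtain ⟨V, hV, hxV, hVle⟩ := exists_isAffineOpen_mem_and_subset (x := x) (U := U₀) hxU₀
    exact ⟨⟨V, hV⟩, hxV, _, he₀.mono hVle⟩
  obtain ⟨c, hc⟩ := he.self_smul (PicF2.secVal L s U.1)
  have hglb : CohB1.genLocus L s ⊓ U.1 = X.basicOpen c :=
    genLocus_inf_eq_basicOpen s he c hc.symm
  have hgl : x ∈ CohB1.genLocus L s ↔ x ∈ X.basicOpen c := by
    rw [← hglb]
    exact ⟨fun h => ⟨h, hxU⟩, fun h => h.1⟩
  -- `c` lies in the ideal
  have hA : c ∈ (PicF2.zeroScheme L s).ideal U := by
    rw [zeroScheme_eq_idealOfHom L M ε s hL, mem_idealOfHom_iff]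
    obtain ⟨m₀, hm₀⟩ : ∃ m₀ : Γ(M, U.1),
        ε.hom.app U.1 (SecTwist.tmul L M U.1 e m₀) =
          (show Γ(unitMod X, U.1) from (1 : Γ(X, U.1))) := by
      obtain ⟨w, hw⟩ : ∃ w : Γ(CohB1.tensorMod L M, U.1),
          ε.hom.app U.1 w = (show Γ(unitMod X, U.1) from (1 : Γ(X, U.1))) := by
        refine ⟨ε.inv.app U.1 (show Γ(unitMod X, U.1) from (1 : Γ(X, U.1))), ?_⟩
        rw [← ConcreteCategory.comp_apply, ← Scheme.Modules.Hom.comp_app, Iso.inv_hom_id]
        rfl
      obtain ⟨m₀, hm₀⟩ := (bijective_tmul_of_isBasisOver M L he U.1 le_rfl).2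
        ((tensorCommAll L M).hom.app U.1 w)
      refine ⟨m₀, ?_⟩
      have hm₀' : SecTwist.tmul M L U.1 m₀ e = (tensorCommAll L M).hom.app U.1 w := by
        rw [← hm₀, res_self]
      have h2 : SecTwist.tmul L M U.1 e m₀ = w := by
        have h3 := congrArg ((tensorCommAll L M).inv.app U.1) hm₀'
        rw [tensorCommAll_inv_app_tmul] at h3
        rw [h3, ← ConcreteCategory.comp_apply, ← Scheme.Modules.Hom.comp_app, Iso.hom_inv_id]
        rfl
      rw [h2, hw]
    refine ⟨m₀, ?_⟩
    have h5 : SecTwist.tmul L M U.1 (PicF2.secVal L s U.1) m₀ =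
        c • SecTwist.tmul L M U.1 e m₀ := by
      rw [← hc, tmul_smul_left]
    rw [dualSec_app, h5]
    have h6 := Scheme.Modules.Hom.app_smul ε.hom c (SecTwist.tmul L M U.1 e m₀)
    rw [hm₀] at h6
    refine h6.trans ?_
    change c * 1 = c
    exact mul_one c
  -- every element of the ideal is a multiple of `c`
  have hB : ∀ a ∈ (PicF2.zeroScheme L s).ideal U, ∃ b : Γ(X, U.1), a = b * c := by
    intro a ha
    have ha' : a ∈ PicF2.zeroIdealOn L s U.1 :=
      Scheme.IdealSheafData.ideal_ofIdeals_le _ U ha
    have hex : ∃ b : Γ(X, U.1), a • e = b • PicF2.secVal L s U.1 := ha' e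
    obtain ⟨b, hb⟩ := hex
    refine ⟨b, ?_⟩
    apply he.coord_injective
    have h4 : b • PicF2.secVal L s U.1 = (b * c) • e := by
      rw [← hc]
      exact (mul_smul b c e).symm
    exact hb.trans h4
  rw [Scheme.IdealSheafData.mem_support_iff_of_mem (U := U) hxU, Scheme.mem_zeroLocus_iff, hgl]
  constructor
  · intro h
    exact h c hA
  · intro h a ha
    obtain ⟨b, rfl⟩ := hB a ha
    rw [Scheme.basicOpen_mul]
    exact fun h' => h h'.2

end Groth.Agent.LD.QC

namespace Groth.Agent.LD.PD
open Groth.Agent.LD.QC Groth.Agent.LD Groth.Agent.LD.CL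

attribute [-instance] Groth.Agent.LD.QC.stalkModule

/-- a closed subscheme is connected iff its support is. -/
theorem connectedSpace_subscheme_iff {X : Scheme.{u}} (J : X.IdealSheafData) :
    ConnectedSpace J.subscheme ↔ _root_.IsConnected (J.support : Set X) := by
  have hemb : Topology.IsEmbedding J.subschemeι := J.subschemeι.isClosedEmbedding.isEmbedding
  have hr : (J.support : Set X) = J.subschemeι '' Set.univ := by
    rw [Set.image_univ, Scheme.IdealSheafData.range_subschemeι]
  rw [connectedSpace_iff_univ, hr]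
  constructor
  · intro h
    exact h.image _ hemb.continuous.continuousOn
  · intro h
    exact ⟨Set.image_nonempty.mp h.nonempty,
      (hemb.isInducing.isPreconnected_image).mp h.isPreconnected⟩

section Main

variable (k : Type u) [Field k]

/-- **connectedness of ample divisors on integral proper schemes of dimension `≥ 2`** over a
field (no depth hypothesis): reduce to the normalization. -/
theorem connectedSpace_zeroScheme_of_isIntegral (X : Scheme.{u})
    [X.Over (Spec (CommRingCat.of k))] [IsProper (X ↘ Spec (CommRingCat.of k))] [IsIntegral X]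
    (e : ℕ) (he : topologicalKrullDim X = e) (h2 : 2 ≤ e)
    (L : X.Modules) (hL : CohB1.IsAmple L) (s : Coh.structureModule X ⟶ L) (hs : s ≠ 0) :
    ConnectedSpace ↥(PicF2.zeroScheme L s).subscheme := by
  haveI : IsNoetherian X := Groth.Agent.H5.Curve2.isNoetherian_of_proper k X
  haveI : QuasiCompact (X.fromSpecStalk (genericPoint X)) := inferInstance
  haveI : QuasiSeparated (X.fromSpecStalk (genericPoint X)) := inferInstance
  haveI hfin : IsFinite (Curv2.normalizationι X) :=
    Groth.Agent.H4.Cok.isFinite_of_nagata X (fun U =>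
      Groth.Agent.H6.NZ.isNagata_sections k (X ↘ Spec (CommRingCat.of k)) U.1 U.2)
  letI : (Curv2.normalization X).Over (Spec (CommRingCat.of k)) :=
    ⟨Curv2.normalizationι X ≫ (X ↘ Spec (CommRingCat.of k))⟩
  haveI hprop : IsProper ((Curv2.normalization X) ↘ Spec (CommRingCat.of k)) := by
    change IsProper (Curv2.normalizationι X ≫ (X ↘ Spec (CommRingCat.of k)))
    infer_instance
  haveI : IsNoetherian (Curv2.normalization X) :=
    Groth.Agent.H5.Curve2.isNoetherian_of_proper k (Curv2.normalization X)
  have hsurj : Function.Surjective (Curv2.normalizationι X).base :=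
    (Groth.Agent.H4.NormInt.surjective_normalizationι X).surj
  have hdim' : topologicalKrullDim (Curv2.normalization X) = e := by
    rw [(Groth.Agent.H3.DimSch.dim_eq_of_isFinite (Curv2.normalizationι X)).2 hsurj, he]
  have hL' : CohB1.IsAmple ((Scheme.Modules.pullback (Curv2.normalizationι X)).obj L) :=
    Groth.Agent.LD.PN.AmD.isAmple_pullback_of_isAffineHom (Curv2.normalizationι X) L hL
  -- the pulled back section is nonzero, hence regular
  have hgl := QC.genLocus_pbHom (Curv2.normalizationι X) hL.1 s
  have hne : QC.pbHom (Curv2.normalizationι X) s ≠ 0 := by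
    obtain ⟨x, hx⟩ := Groth.Agent.H5.CV.genLocus_ne_bot_of_ne_zero hL.1 s hs
    obtain ⟨x', rfl⟩ := hsurj x
    apply Groth.Agent.H5.Curve2.ne_zero_of_mem_genLocus _ _ x'
    rw [hgl]
    exact hx
  have hs' : Mono (QC.pbHom (Curv2.normalizationι X) s) :=
    Groth.Agent.LD.Curve.mono_of_ne_zero (isInvertible_unit _) hL'.1 _ hne
  -- depth at the closed points of the normalization
  have hcomp : ∀ W ∈ irreducibleComponents (Curv2.normalization X),
      topologicalKrullDim W = e := by
    intro W hW
    rw [irreducibleComponents_eq_singleton] at hW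
    rw [Set.mem_singleton_iff.mp hW, ← hdim']
    exact (Homeomorph.Set.univ _).isHomeomorph.topologicalKrullDim_eq _
  have hdepth : ∀ x' : Curv2.normalization X, IsClosed ({x'} : Set (Curv2.normalization X)) →
      2 ≤ LocCoh.depth ((Curv2.normalization X).presheaf.stalk x')
        ((Curv2.normalization X).presheaf.stalk x') := by
    intro x' hx'
    obtain ⟨hdom, hic⟩ := Groth.Agent.H4.NormInt.isNormalScheme_normalization X x'
    haveI := hdom
    haveI := hic
    apply Groth.Agent.H2.PicCodim2.two_le_depth_of_normal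
    have h1 := Groth.Agent.H1.DimFormula.localDim_eq_stalk_of_isClosed
      ((Curv2.normalization X) ↘ Spec (CommRingCat.of k)) x' hx'
    have h3 := Groth.Agent.LD.MirFlat.localDim_eq_of_equidim
      ((Curv2.normalization X) ↘ Spec (CommRingCat.of k)) e hcomp x'
    rw [← h1, h3]
    exact_mod_cast h2
  haveI hconn := connectedSpace_zeroScheme k (Curv2.normalization X) _ hL'
    (QC.pbHom (Curv2.normalizationι X) s) hs' hdepth
  rw [connectedSpace_subscheme_iff] at hconn ⊢
  rw [QC.support_zeroScheme _ hL'.1, hgl] at hconn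
  rw [QC.support_zeroScheme L hL.1 s]
  have himg : (Curv2.normalizationι X).base ''
      ((((Curv2.normalizationι X) ⁻¹ᵁ (CohB1.genLocus L s) : (Curv2.normalization X).Opens) :
        Set (Curv2.normalization X))ᶜ) = ((CohB1.genLocus L s : X.Opens) : Set X)ᶜ := by
    change (Curv2.normalizationι X).base ''
      ((Curv2.normalizationι X).base ⁻¹' ((CohB1.genLocus L s : X.Opens) : Set X))ᶜ = _
    rw [← Set.preimage_compl, Set.image_preimage_eq _ hsurj]
  rw [← himg]
  exact hconn.image _ (Curv2.normalizationι X).continuous.continuousOn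

/-- the same for closed subschemes of projective space, with the dimension given as a bound. -/
theorem connectedSpace_zeroScheme_of_closed_in_Pn (X : Scheme.{u})
    (f : X ⟶ Spec (CommRingCat.of k)) [IsIntegral X] (n : ℕ) (ι : X ⟶ CohB1.ProjSpace n k)
    [IsClosedImmersion ι] (hι : ι ≫ CohB1.ProjSpace.toSpec n k = f)
    (hdim : (2 : WithBot ℕ∞) ≤ topologicalKrullDim X)
    (L : X.Modules) (hL : CohB1.IsAmple L) (s : Coh.structureModule X ⟶ L) (hs : Mono s) :
    ConnectedSpace ↥(PicF2.zeroScheme L s).subscheme := by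
  letI : X.Over (Spec (CommRingCat.of k)) := ⟨f⟩
  haveI : IsProper (X ↘ Spec (CommRingCat.of k)) := by
    change IsProper f
    rw [← hι]
    haveI := Groth.Agent.H5.AG.isProper_toSpec n k
    infer_instance
  have hle : topologicalKrullDim X ≤ (n : WithBot ℕ∞) := by
    rw [← Groth.Agent.H5.IntN.dim_projSpace k n]
    exact ι.isClosedEmbedding.isEmbedding.isInducing.topologicalKrullDim_le
  obtain ⟨e, he⟩ : ∃ e : ℕ, topologicalKrullDim X = e := by
    have hne : topologicalKrullDim X ≠ ⊥ := by
      intro h
      rw [h] at hdim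
      exact absurd hdim (by simp)
    obtain ⟨m, hm⟩ := WithBot.ne_bot_iff_exists.mp hne
    rw [← hm] at hle
    have hm' : m ≤ (n : ℕ∞) := by exact_mod_cast hle
    obtain ⟨e, he⟩ := ENat.ne_top_iff_exists.mp (ne_top_of_le_ne_top (ENat.coe_ne_top n) hm')
    exact ⟨e, by rw [← hm, ← he]; rfl⟩
  have h2 : 2 ≤ e := by
    rw [he] at hdim
    exact_mod_cast hdim
  haveI := hs
  exact connectedSpace_zeroScheme_of_isIntegral k X e he h2 L hL s
    (Groth.Agent.H5.Curve6.ne_zero_of_mono_of_isInvertible (isInvertible_unit X) s)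

end Main

end Groth.Agent.LD.PD
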