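import Mathlib
import Groth.Agent.Lib.Lead.PD.ConnZero

/-! # Cohomology of the thickenings of an ample divisor (SGA 2 XII 3.4 over a field)

For an ample effective Cartier divisor `Y ⊆ X` on a proper scheme over a field whose local rings
at closed points have depth `> n`, the maps `Hⁱ(X, O) → Hⁱ(Y_m, O)` are bijective for `i < n`
and injective for `i = n`, for `m ≫ 0`. -/

set_option autoImplicit false
universe u
open CategoryTheory Limits Opposite Abelian AlgebraicGeometry TopologicalSpace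

namespace Groth.Agent.LD.PD
open Groth.Agent.LD.QC Groth.Agent.LD Groth.Agent.LD.CL

attribute [-instance] Groth.Agent.LD.QC.stalkModule

/-- the short exact sequence `0 ⟶ 𝓘 ⟶ O ⟶ O/𝓘 ⟶ 0`. -/
theorem shortExact_idealMod {X : Scheme.{u}} (J : X.IdealSheafData) :
    (ShortComplex.mk (ClSub.idealModι J) (ClSub.toSubscheme J)
      (kernel.condition (ClSub.toSubscheme J))).ShortExact := by
  haveI : Epi (ClSub.toSubscheme J) := by
    apply Groth.Agent.H5.Lim.epi_of_surjective_affine_cover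
    intro x
    obtain ⟨U, hU, hxU, -⟩ := exists_isAffineOpen_mem_and_subset (x := x) (U := ⊤) trivial
    exact ⟨U, hU, hxU, toSubscheme_app_surjective J ⟨U, hU⟩⟩
  exact
    { exact := ShortComplex.exact_of_f_is_kernel _ (kernelIsKernel _)
      mono_f := inferInstanceAs (Mono (kernel.ι (ClSub.toSubscheme J)))
      epi_g := inferInstanceAs (Epi (ClSub.toSubscheme J)) }

/-- the depth of the structure module. -/
lemma depth_unitMod_ge {X : Scheme.{u}} (x : X) (n : ℕ)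
    (h : (n : ℕ∞) < LocCoh.depth (X.presheaf.stalk x) (X.presheaf.stalk x)) :
    ((n + 1 : ℕ) : ℕ∞) ≤
      LocCoh.depth (X.presheaf.stalk x) ((QC.unitMod X).presheaf.stalk x) := by
  obtain ⟨e⟩ := nonempty_unitStalkEquiv x
  rw [Groth.Agent.H1.AB.depth_eq_of_linearEquiv e]
  have h2 : ((n + 1 : ℕ) : ℕ∞) = (n : ℕ∞) + 1 := by push_cast; rfl
  rw [h2]
  exact Order.add_one_le_of_lt h

/-- **cohomology of the thickenings of an ample divisor.** -/
theorem lef_cohomology (k : Type u) [Field k] (X : Scheme.{u}) [X.Over (Spec (CommRingCat.of k))]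
    [IsProper (X ↘ Spec (CommRingCat.of k))] (𝓘 : X.IdealSheafData) (L : X.Modules)
    (hL : ClSub.IsInverseOf L (ClSub.idealMod 𝓘)) (hamp : CohB1.IsAmple L) (n : ℕ)
    (hdepth : ∀ x : X, IsClosed ({x} : Set X) →
      (n : ℕ∞) < LocCoh.depth (X.presheaf.stalk x) (X.presheaf.stalk x)) :
    ∃ m₀ : ℕ, ∀ m : ℕ, m₀ ≤ m →
      (∀ i : ℕ, i < n → Function.Bijective (HHmap k (ClSub.toSubscheme (𝓘 ^ (m + 1))) i)) ∧
        Function.Injective (HHmap k (ClSub.toSubscheme (𝓘 ^ (m + 1))) n) := by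
  obtain ⟨ε⟩ := hL
  have hI : PicF.IsInvertible (ClSub.idealMod 𝓘) := QC.isInvertible_of_tensor_iso hamp.1 ε
  have hdepth' : ∀ x : X, IsClosed ({x} : Set X) → ((n + 1 : ℕ) : ℕ∞) ≤
      LocCoh.depth (X.presheaf.stalk x) ((QC.unitMod X).presheaf.stalk x) :=
    fun x hx => depth_unitMod_ge x n (hdepth x hx)
  obtain ⟨m₀, hm₀⟩ : ∃ m₀ : ℕ, ∀ j : ℕ, j < n + 1 → ∀ m : ℕ, m₀ ≤ m →
      Subsingleton (Coh.HH X (CohB1.tensorMod (QC.unitMod X)
        (CohB1.tensorPow (ClSub.idealMod 𝓘) m)) j) := by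
    apply exists_uniform_bound (n + 1)
      (fun j m => Subsingleton (Coh.HH X (CohB1.tensorMod (QC.unitMod X)
        (CohB1.tensorPow (ClSub.idealMod 𝓘) m)) j))
    intro j hj
    exact vanish_negPow_ample k X L hamp (ClSub.idealMod 𝓘) ε (QC.unitMod X)
      (PF.isCoh_unitMod X) n hdepth' j (by omega)
  refine ⟨m₀, fun m hm => ?_⟩
  obtain ⟨ψ⟩ := QC.nonempty_tensorPow_iso_idealMod_pow 𝓘 hI m
  have iso : CohB1.tensorMod (QC.unitMod X) (CohB1.tensorPow (ClSub.idealMod 𝓘) (m + 1)) ≅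
      ClSub.idealMod (𝓘 ^ (m + 1)) := Groth.Agent.LD.PD.unitorL _ ≪≫ ψ
  have hvan : ∀ j : ℕ, j ≤ n → Subsingleton (Coh.HH X (ClSub.idealMod (𝓘 ^ (m + 1))) j) :=
    fun j hj => Groth.Agent.LD.AS.subsingleton_HH_of_iso' iso j
      (hm₀ j (by omega) (m + 1) (by omega))
  have hS := shortExact_idealMod (𝓘 ^ (m + 1))
  have hinj : ∀ i : ℕ, i ≤ n →
      Function.Injective (HHmap k (ClSub.toSubscheme (𝓘 ^ (m + 1))) i) := by
    intro i hi
    rw [injective_iff_map_eq_zero]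
    intro x hx
    obtain ⟨x₁, hx₁⟩ := exact₂ hS k i x hx
    haveI := hvan i hi
    rw [← hx₁, Subsingleton.elim x₁ 0, map_zero]
  have hsurj : ∀ i : ℕ, i < n →
      Function.Surjective (HHmap k (ClSub.toSubscheme (𝓘 ^ (m + 1))) i) := by
    intro i hi y
    haveI := hvan (i + 1) (by omega)
    exact exact₃ hS k i y (Subsingleton.elim _ _)
  exact ⟨fun i hi => ⟨hinj i hi.le, hsurj i hi⟩, hinj n le_rfl⟩

end Groth.Agent.LD.PD
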