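import Groth.Agent.Lib.Lead.PD.Converse2
import Groth.Agent.Lib.Lead.Curve.Proper
import Groth.Agent.Lib.Lead.PN.ClosedSubGG
import Groth.Agent.Lib.Helper1.SmoothDepth

/-! # The converse depth criterion on closed subschemes of projective space:
Cohen–Macaulayness from the vanishing of the cohomology of negative twists -/

set_option autoImplicit false
set_option linter.style.haveILetI false
noncomputable section
universe u
open CategoryTheory Limits AlgebraicGeometry TopologicalSpace Opposite Abelian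

namespace Groth.Agent.LD.PD.HA

open Twist Groth.Agent.LD.QC Groth.Agent.LD Groth.Agent.LD.PN Groth.Agent.LD.TW

attribute [-instance] Groth.Agent.LD.QC.stalkModule

variable (N : ℕ) (k : Type u) [Field k] {X : Scheme.{u}}
  (i : X ⟶ Proj (CohB1.polyGrading N k)) [IsClosedImmersion i]

/-- **Cohen–Macaulayness from vanishing**: if `H^j(X, O_X(-q)) = 0` for all `j < n = dim X` and
`q ≫ 0`, the local rings of `X` at the closed points are Cohen–Macaulay of dimension `n`. -/
theorem cm_of_van (n : ℕ) (hn : topologicalKrullDim X = n)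
    (hv : ∀ j : ℕ, j < n → ∃ q₀ : ℕ, ∀ q : ℕ, q₀ ≤ q →
      Subsingleton (Coh.HH X (twOn N k i (unitMod X) (-(q : ℤ))) j))
    (x : X) (hx : IsClosed ({x} : Set X)) :
    LocCoh.IsCohenMacaulayLocalRing (X.presheaf.stalk x) ∧
      ringKrullDim (X.presheaf.stalk x) = n := by
  haveI : IsLocallyNoetherian X := LocallyOfFiniteType.isLocallyNoetherian i
  have hcohU : Coh.IsCoh (unitMod X) := PF.isCoh_unitMod X
  haveI : (unitMod X).IsQuasicoherent := hcohU.1
  have hdepth : (n : ℕ∞) ≤ LocCoh.depth (X.presheaf.stalk x) (X.presheaf.stalk x) := by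
    rcases Nat.eq_zero_or_pos n with h0 | hpos
    · rw [h0]
      exact bot_le
    · have hG := isCoh_push N k i (unitMod X) hcohU
      have hvan : ∀ j, j ≤ n - 1 →
          Van N k ((Scheme.Modules.pushforward i).obj (unitMod X)) j := by
        intro j hj
        obtain ⟨q₀, hq₀⟩ := hv j (by omega)
        exact ⟨q₀, fun q hq =>
          (subsingleton_HH_twOn_iff N k i (unitMod X) (-(q : ℤ)) j).mp (hq₀ q hq)⟩
      have hy : IsClosed ({i x} : Set (Proj (CohB1.polyGrading N k))) := by
        have h := i.isClosedEmbedding.isClosedMap _ hx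
        rwa [Set.image_singleton] at h
      have h1 := lt_depth_of_van N k _ hG (n - 1) hvan (i x) hy
      haveI : Module.Finite (X.presheaf.stalk x) ((unitMod X).presheaf.stalk x) :=
        Groth.Agent.H1.CohLen.finite_stalk _ hcohU.2 x
      rw [PD.depth_stalk_push_closedImmersion i (unitMod X) x] at h1
      obtain ⟨e⟩ := PD.nonempty_unitStalkEquiv (Z := X) x
      rw [Groth.Agent.H1.AB.depth_eq_of_linearEquiv e] at h1
      have h2 := Order.add_one_le_of_lt h1
      have h3 : ((n - 1 : ℕ) : ℕ∞) + 1 = (n : ℕ∞) := by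
        have : n - 1 + 1 = n := by omega
        exact_mod_cast this
      rwa [h3] at h2
  obtain ⟨d, hd, hdle⟩ := Groth.Agent.H6.Depth.exists_depth_eq
    (R := X.presheaf.stalk x) (X.presheaf.stalk x)
  rw [Module.supportDim_self_eq_ringKrullDim] at hdle
  have hle : ringKrullDim (X.presheaf.stalk x) ≤ n := by
    rw [← hn]
    exact Groth.Agent.LD.Curve.ringKrullDim_stalk_le X x
  rw [hd] at hdepth
  have hnd : n ≤ d := by exact_mod_cast hdepth
  have hdim : ringKrullDim (X.presheaf.stalk x) = n := by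
    apply le_antisymm hle
    refine le_trans ?_ hdle
    exact_mod_cast hnd
  have hdn : d = n := by
    have h1 : ((d : ℕ) : WithBot ℕ∞) ≤ (n : WithBot ℕ∞) := hdle.trans hle
    have h2 : d ≤ n := by exact_mod_cast h1
    omega
  refine ⟨{ supportDim_eq_depth := ?_ }, hdim⟩
  rw [Module.supportDim_self_eq_ringKrullDim, hdim, hd, hdn]
  rfl

/-- **vanishing from Cohen–Macaulayness.** -/
theorem van_of_cm (n : ℕ)
    (hCM : ∀ x : X, IsClosed ({x} : Set X) →
      LocCoh.IsCohenMacaulayLocalRing (X.presheaf.stalk x) ∧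
        ringKrullDim (X.presheaf.stalk x) = n)
    (F : X.Modules) (hF : FlatMod.IsFinLocFree F) :
    ∃ q₀ : ℕ, ∀ q : ℕ, q₀ ≤ q → ∀ j : ℕ, j < n →
      Subsingleton (Coh.HH X (twOn N k i F (-(q : ℤ))) j) := by
  haveI : IsLocallyNoetherian X := LocallyOfFiniteType.isLocallyNoetherian i
  have hFcoh : Coh.IsCoh F := by
    haveI := isFinitePresentation_of_isFinLocFree F hF
    exact ⟨inferInstance, inferInstance⟩
  rcases Nat.eq_zero_or_pos n with h0 | hpos
  · exact ⟨0, fun q _ j hj => absurd hj (by omega)⟩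
  · have hdepth : ∀ x : X, IsClosed ({x} : Set X) →
        ((n - 1 + 1 : ℕ) : ℕ∞) ≤ LocCoh.depth (X.presheaf.stalk x) (F.presheaf.stalk x) := by
      intro x hx
      obtain ⟨hcm, hdim⟩ := hCM x hx
      apply Groth.Agent.H1.SmoothDepth.depth_stalk_finLocFree_ge F hF
      have h1 := hcm.supportDim_eq_depth
      rw [Module.supportDim_self_eq_ringKrullDim, hdim] at h1
      have h2 : (n : ℕ∞) = LocCoh.depth (X.presheaf.stalk x) (X.presheaf.stalk x) :=
        WithBot.coe_injective (by rw [← h1]; rfl)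
      rw [← h2]
      exact_mod_cast (by omega : n - 1 + 1 ≤ n)
    obtain ⟨m₀, hm₀⟩ := PD.exists_uniform_bound n
      (fun j m => Subsingleton (Coh.HH X (twOn N k i F (-(m : ℤ))) j))
      (fun j hj => PD.vanish_on_of_depth N k i F hFcoh (n - 1) hdepth j (by omega))
    exact ⟨m₀, fun q hq j hj => hm₀ j hj q hq⟩

/-- `Ext^e(O_X(-q), G) = 0` for `e > 0` and `q ≫ 0`, `G` coherent. -/
theorem ext_twOn_unit_vanish [HasExt.{u} X.Modules] (G : X.Modules) (hG : Coh.IsCoh G) :
    ∃ q₀ : ℕ, ∀ q : ℕ, q₀ ≤ q → ∀ e : ℕ, 0 < e →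
      Subsingleton (Ext (twOn N k i (unitMod X) (-(q : ℤ))) G e) := by
  have hP := isCoh_push N k i G hG
  obtain ⟨d₀, hd₀⟩ := serre_vanishing' N k _ hP
  refine ⟨d₀.toNat, fun q hq e he => ?_⟩
  have hqd : d₀ ≤ (q : ℤ) := by omega
  have h1 : Subsingleton (Coh.HH X (twOn N k i G (q : ℤ)) e) :=
    (subsingleton_HH_twOn_iff N k i G (q : ℤ) e).mpr (hd₀ (q : ℤ) hqd e he)
  obtain ⟨ε⟩ := QC.nonempty_ext_invertible_equiv
    ((Scheme.Modules.pullback i).obj (twist (CohB1.polyGrading N k) (-(q : ℤ))))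
    ((Scheme.Modules.pullback i).obj (twist (CohB1.polyGrading N k) (q : ℤ)))
    (PD.pullTwistInvIso N k i (-(q : ℤ)) (q : ℤ) (by omega)) G e
  haveI : Subsingleton (Coh.HH X (CohB1.tensorMod G
      ((Scheme.Modules.pullback i).obj (twist (CohB1.polyGrading N k) (q : ℤ)))) e) := h1
  haveI : Subsingleton (Ext ((Scheme.Modules.pullback i).obj
      (twist (CohB1.polyGrading N k) (-(q : ℤ)))) G e) := ε.toEquiv.subsingleton
  exact (QC.extEquivLeft (QC.unitorL' ((Scheme.Modules.pullback i).obj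
    (twist (CohB1.polyGrading N k) (-(q : ℤ))))) G e).toEquiv.subsingleton

end Groth.Agent.LD.PD.HA
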