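import Mathlib
import Groth.Agent.Lib.Lead.PD.Sub
import Groth.Agent.Lib.Lead.EZ.ExtLocFreeLin
import Groth.Agent.Lib.Lead.QC.LocFree
import Groth.Agent.Lib.Lead.MirFlat
import Groth.Agent.Lib.Helper1.DimFormula3
import Groth.Agent.H4.ProjSmooth

/-! # Duality for finite locally free modules on Cohen–Macaulay equidimensional closed
subschemes of projective space. -/

set_option autoImplicit false
universe u
open CategoryTheory Limits Opposite Abelian AlgebraicGeometry TopologicalSpace

namespace Groth.Agent.LD.PD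
open Twist Groth.Agent.LD.EZ Groth.Agent.LD.MS Groth.Agent.LD.QC Groth.Agent.LD

attribute [-instance] Groth.Agent.LD.QC.stalkModule

variable (N : ℕ) (k : Type u) [Field k] {X : Scheme.{u}}
  (i : X ⟶ Proj (CohB1.polyGrading N k)) [IsClosedImmersion i]
  [X.Over (Spec (CommRingCat.of k))]

include i in
/-- the local rings at closed points of an equidimensional closed subscheme of `P^N_k` of
dimension `n` have dimension `n`. -/
theorem ringKrullDim_stalk_of_equidim
    (hi : i ≫ CohB1.ProjSpace.toSpec N k = X ↘ Spec (CommRingCat.of k)) (n : ℕ)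
    (heq : ∀ Z : Set X, Z ∈ irreducibleComponents X →
      topologicalKrullDim Z = (n : WithBot ℕ∞))
    (x : X) (hx : IsClosed ({x} : Set X)) : ringKrullDim (X.presheaf.stalk x) = n := by
  haveI := Groth.Agent.H4.ProjSmooth.smooth_toSpec N k
  haveI : LocallyOfFiniteType (CohB1.ProjSpace.toSpec N k) := inferInstance
  haveI : LocallyOfFiniteType i := inferInstance
  haveI : LocallyOfFiniteType (X ↘ Spec (CommRingCat.of k)) := by
    rw [← hi]
    exact @locallyOfFiniteType_comp X (CohB1.ProjSpace N k) _ i (CohB1.ProjSpace.toSpec N k)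
      ‹LocallyOfFiniteType i› inferInstance
  have h1 := Groth.Agent.H1.DimFormula.localDim_eq_stalk_of_isClosed
    (X ↘ Spec (CommRingCat.of k)) x hx
  have h2 := Groth.Agent.LD.MirFlat.localDim_eq_of_equidim (X ↘ Spec (CommRingCat.of k)) n
    (fun W hW => heq W hW) x
  rw [← h1, h2]

include i in
theorem duality_locFree_on
    (hi : i ≫ CohB1.ProjSpace.toSpec N k = X ↘ Spec (CommRingCat.of k)) (n : ℕ)
    (hCM : ∀ x : X, LocCoh.IsCohenMacaulayLocalRing (X.presheaf.stalk x))
    (heq : ∀ Z : Set X, Z ∈ irreducibleComponents X →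
      topologicalKrullDim Z = (n : WithBot ℕ∞))
    (ω : X.Modules) (hω : Coh.IsCoh ω) (t : Coh.HH X ω n →ₗ[k] k)
    (hdual : ∀ F : X.Modules, Coh.IsCoh F → CL.IsDualFor k n ω t F)
    (F : X.Modules) (hF : FlatMod.IsFinLocFree F) [DCoh.HasSheafHom F] (j : ℕ) (hj : j ≤ n) :
    Nonempty (Module.Dual k (Coh.HH X F j) ≃ₗ[k]
      Coh.HH X ((DCoh.sheafHom F).obj ω) (n - j)) := by
  haveI : ModSite.HasSheafHom (O := X.sheaf) F := hasSheafHom _
  haveI := Groth.Agent.H1.sheafOfModules_isGrothendieckAbelian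
    (Opens.grothendieckTopology X) X.ringCatSheaf
  haveI : EnoughInjectives X.Modules :=
    inferInstanceAs (EnoughInjectives (SheafOfModules.{u} X.ringCatSheaf))
  haveI : HasExt.{u} X.Modules := hasExt_of_enoughInjectives.{u} _
  have hcoh : Coh.IsCoh F := by
    haveI := isFinitePresentation_of_isFinLocFree F hF
    exact ⟨inferInstance, inferInstance⟩
  have hCM' : ∀ x : X, IsClosed ({x} : Set X) →
      LocCoh.IsCohenMacaulayLocalRing (X.presheaf.stalk x) ∧
        ringKrullDim (X.presheaf.stalk x) = n :=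
    fun x hx => ⟨hCM x, ringKrullDim_stalk_of_equidim N k i hi n heq x hx⟩
  obtain ⟨e1⟩ := (duality_on N k i n hCM' ω hω t hdual F hcoh (n - j)).1 j (by omega)
  obtain ⟨e2⟩ := nonempty_ext_linearEquiv_HH_sheafHom k F ω hF (n - j)
  let e3 := CL.HHisoEquiv k ((sheafHomDCohIso F).app ω) (n - j)
  exact ⟨e1.symm ≪≫ₗ e2 ≪≫ₗ e3⟩

end Groth.Agent.LD.PD
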