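import Groth.Agent.Lib.Lead.PD.ConnSurj
import Groth.Agent.Lib.Lead.Curve.Euler
import Groth.Agent.Lib.Lead.QC.QuotSupp
import Groth.Agent.Lib.Lead.CohLES.Euler
import Groth.Agent.Lib.Lead.CohLES.H0Lin

/-! # `H¹` of the ideal of a connected reduced closed subscheme -/

set_option autoImplicit false
set_option linter.style.haveILetI false
universe u
open CategoryTheory Limits Opposite Abelian AlgebraicGeometry TopologicalSpace

namespace Groth.Agent.LD.PD
open Groth.Agent.LD.QC Groth.Agent.LD Groth.Agent.LD.CL

/-- an artinian reduced ring with only trivial idempotents is a field. -/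
theorem isField_of_artinian_reduced_idem (A : Type*) [CommRing A] [IsArtinianRing A]
    [IsReduced A] [Nontrivial A] (h : ∀ e : A, IsIdempotentElem e → e = 0 ∨ e = 1) :
    IsField A := by
  classical
  have hsub : ∀ m m' : MaximalSpectrum A, m = m' := by
    intro m m'
    by_contra hne
    let E := IsArtinianRing.equivPi A
    have hε : IsIdempotentElem (E.symm (Pi.single m 1)) := by
      change E.symm (Pi.single m 1) * E.symm (Pi.single m 1) = E.symm (Pi.single m 1)
      rw [← map_mul, ← Pi.single_mul, mul_one]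
    have hE : E (E.symm (Pi.single m 1)) = Pi.single m 1 := E.apply_symm_apply _
    haveI := m.isMaximal
    haveI := m'.isMaximal
    rcases h _ hε with h0 | h1
    · have h2 : (Pi.single m (1 : A ⧸ m.asIdeal) :
          ∀ I : MaximalSpectrum A, A ⧸ I.asIdeal) m = 0 := by
        rw [← hE, h0, map_zero]
        rfl
      rw [Pi.single_eq_same] at h2
      exact one_ne_zero h2
    · have h2 : (Pi.single m (1 : A ⧸ m.asIdeal) :
          ∀ I : MaximalSpectrum A, A ⧸ I.asIdeal) m' = 1 := by
        rw [← hE, h1, map_one]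
        rfl
      rw [Pi.single_eq_of_ne (Ne.symm hne)] at h2
      exact zero_ne_one h2
  haveI : IsLocalRing A := by
    apply IsLocalRing.of_unique_max_ideal
    obtain ⟨I, hI⟩ := Ideal.exists_maximal A
    refine ⟨I, hI, fun J hJ => ?_⟩
    exact congrArg MaximalSpectrum.asIdeal (hsub ⟨J, hJ⟩ ⟨I, hI⟩)
  exact IsArtinianRing.isField_of_isReduced_of_isLocalRing A

variable (k : Type u) [Field k] {X : Scheme.{u}} [X.Over (Spec (CommRingCat.of k))]

/-- the global functions of a proper scheme over an algebraically closed field surject onto those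
of a connected reduced closed subscheme. -/
theorem surjective_appTop_of_connected_reduced [IsAlgClosed k]
    [IsProper (X ↘ Spec (CommRingCat.of k))] (J : X.IdealSheafData)
    [ConnectedSpace J.subscheme] [IsReduced J.subscheme] :
    Function.Surjective J.subschemeι.appTop.hom := by
  let φ : Γ(X, ⊤) →+* Γ(J.subscheme, ⊤) := J.subschemeι.appTop.hom
  let ψ : k →+* Γ(X, ⊤) := Coh.toGlobal (X ↘ Spec (CommRingCat.of k))
  letI : Algebra k Γ(J.subscheme, ⊤) := (φ.comp ψ).toAlgebra
  have hfin : Module.Finite k (Coh.HH X (ClSub.quotMod J) 0) :=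
    Groth.Agent.LD.Curve.finite_HH k X _ (isCoh_quotMod J) 0
  let L : Coh.HH X (ClSub.quotMod J) 0 →ₗ[k] Γ(J.subscheme, ⊤) :=
    { toFun := fun x => HH0Equiv (ClSub.quotMod J) x
      map_add' := fun x y => map_add _ x y
      map_smul' := fun c x => by
        have h1 := HH0Equiv_smul (ClSub.quotMod J) (ψ c) x
        exact h1 }
  have hL : Function.Surjective L := (HH0Equiv (ClSub.quotMod J)).surjective
  haveI : Module.Finite k Γ(J.subscheme, ⊤) := Module.Finite.of_surjective L hL
  haveI : IsArtinianRing Γ(J.subscheme, ⊤) := IsArtinianRing.of_finite k _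
  haveI : Nonempty (⊤ : J.subscheme.Opens) := ⟨⟨Classical.arbitrary _, trivial⟩⟩
  haveI : Nontrivial Γ(J.subscheme, ⊤) := inferInstance
  have hfield : IsField Γ(J.subscheme, ⊤) :=
    isField_of_artinian_reduced_idem _
      (fun e he => Groth.Agent.LD.FF.idem_trivial_of_connectedSpace J.subscheme e he)
  haveI : IsDomain Γ(J.subscheme, ⊤) := hfield.isDomain
  haveI : Algebra.IsIntegral k Γ(J.subscheme, ⊤) := Algebra.IsIntegral.of_finite k _
  have hs : Function.Surjective (algebraMap k Γ(J.subscheme, ⊤)) :=
    IsAlgClosed.algebraMap_bijective_of_isIntegral.2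
  intro a
  obtain ⟨c, hc⟩ := hs a
  exact ⟨ψ c, hc⟩

/-- **`H¹` of the ideal of a connected reduced closed subscheme vanishes** when `H¹(O_X) = 0`. -/
theorem subsingleton_H1_idealMod_of_connected_reduced [IsAlgClosed k]
    [IsProper (X ↘ Spec (CommRingCat.of k))] (J : X.IdealSheafData)
    [ConnectedSpace J.subscheme] [IsReduced J.subscheme]
    (hH1 : Subsingleton (Coh.HH X (Coh.structureModule X) 1)) :
    Subsingleton (Coh.HH X (ClSub.idealMod J) 1) := by
  have hS := shortExact_idealMod J
  have hsurj := surjective_appTop_of_connected_reduced k J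
  have hzero : ∀ y : Coh.HH X (ClSub.idealMod J) 1, y = 0 := by
    intro y
    obtain ⟨x₃, hx₃⟩ := exact₁ hS k 0 y (Subsingleton.elim _ _)
    obtain ⟨a, ha⟩ := hsurj (HH0Equiv (ClSub.quotMod J) x₃)
    have h3 := Groth.Agent.LD.NegTwist.HH0Equiv_HHmap k X (ClSub.toSubscheme J)
      ((HH0Equiv (unitMod X)).symm a)
    rw [AddEquiv.apply_symm_apply] at h3
    have h4 : HHmap k (ClSub.toSubscheme J) 0 ((HH0Equiv (unitMod X)).symm a) = x₃ := by
      apply (HH0Equiv (ClSub.quotMod J)).injective
      exact h3.trans ha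
    rw [← hx₃, ← h4]
    exact HHδ_g k hS 0 _
  exact ⟨fun a b => (hzero a).trans (hzero b).symm⟩

end Groth.Agent.LD.PD
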