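import Groth.Agent.Lib.Lead.PD.Core
import Groth.Agent.Lib.Helper1.AusBuchReg
import Groth.Agent.Lib.Helper1.SmoothDepth
import Groth.Agent.Lib.Helper1.EquiDim
import Groth.Agent.Lib.Helper1.DimFormula3
import Groth.Agent.Lib.Helper1.CohLen
import Groth.Agent.Lib.Helper5.IntN.Veronese
import Groth.Agent.H4.ProjSmooth
import Groth.Agent.Lib.Helper2.StalkSpec
import Groth.Agent.Lib.Lead.KS.Chase
import Groth.Agent.Lib.Lead.QC.SuppPullback

/-! # Vanishing of the cohomology of large negative twists on projective space, in terms of the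
depth of the stalks at closed points. -/

set_option autoImplicit false
universe u
open CategoryTheory Limits Opposite Abelian AlgebraicGeometry TopologicalSpace

namespace Groth.Agent.LD.PD
open Twist Groth.Agent.LD.QC Groth.Agent.LD Groth.Agent.LD.PN

attribute [-instance] Groth.Agent.LD.QC.stalkModule

variable (n : ℕ) (k : Type u) [Field k]

/-- projective space over a field is irreducible. -/
theorem irreducibleSpace_proj : IrreducibleSpace (Proj (CohB1.polyGrading n k)) := by
  have hne : (HomogeneousIdeal.irrelevant (CohB1.polyGrading n k)).toIdeal ≠ ⊥ := by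
    rw [irrelevant_eq_span n k]
    intro h
    have h1 : (MvPolynomial.X (0 : Fin (n+1)) : MvPolynomial (Fin (n+1)) k) ∈
        Ideal.span (Set.range (MvPolynomial.X : Fin (n+1) → MvPolynomial (Fin (n+1)) k)) :=
      Ideal.subset_span ⟨0, rfl⟩
    rw [h] at h1
    exact MvPolynomial.X_ne_zero (0 : Fin (n+1)) ((Submodule.mem_bot _).mp h1)
  let η : ProjectiveSpectrum (CohB1.polyGrading n k) :=
    ⟨⊥, by rw [HomogeneousIdeal.toIdeal_bot]; exact Ideal.isPrime_bot, fun hle => hne (by
      rw [← le_bot_iff, ← HomogeneousIdeal.toIdeal_bot (𝒜 := CohB1.polyGrading n k)]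
      exact hle)⟩
  have hcl : closure ({η} : Set (ProjectiveSpectrum (CohB1.polyGrading n k))) = Set.univ := by
    rw [Set.eq_univ_iff_forall]
    intro y
    rw [← ProjectiveSpectrum.le_iff_mem_closure]
    change (⊥ : HomogeneousIdeal (CohB1.polyGrading n k)) ≤ _
    exact bot_le
  have : IsIrreducible (Set.univ : Set (ProjectiveSpectrum (CohB1.polyGrading n k))) := by
    rw [← hcl]
    exact isIrreducible_singleton.closure
  change IrreducibleSpace (ProjectiveSpectrum (CohB1.polyGrading n k))
  exact (irreducibleSpace_def _).mpr this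

/-- the local rings of projective space over a field are regular. -/
theorem isRegularLocalRing_stalk (x : Proj (CohB1.polyGrading n k)) :
    IsRegularLocalRing ((Proj (CohB1.polyGrading n k)).presheaf.stalk x) := by
  haveI := Groth.Agent.H4.ProjSmooth.smooth_toSpec n k
  exact Groth.Agent.H1.SmoothDepth.isRegularLocalRing_stalk_of_smooth k
    (CohB1.ProjSpace.toSpec n k) x

/-- the local rings of `P^n_k` at closed points have dimension `n`. -/
theorem ringKrullDim_stalk_of_isClosed (x : Proj (CohB1.polyGrading n k))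
    (hx : IsClosed ({x} : Set (Proj (CohB1.polyGrading n k)))) :
    ringKrullDim ((Proj (CohB1.polyGrading n k)).presheaf.stalk x) = n := by
  haveI := Groth.Agent.H4.ProjSmooth.smooth_toSpec n k
  haveI : LocallyOfFiniteType (CohB1.ProjSpace.toSpec n k) := inferInstance
  haveI : IrreducibleSpace (CohB1.ProjSpace n k) := irreducibleSpace_proj n k
  have h1 := Groth.Agent.H1.DimFormula.localDim_eq_stalk_of_isClosed
    (CohB1.ProjSpace.toSpec n k) x hx
  have h2 := Groth.Agent.H1.EquiDim.localDim_eq_dim (CohB1.ProjSpace.toSpec n k) x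
  have h3 := Groth.Agent.H5.IntN.dim_projSpace k n
  rw [h2, h3] at h1
  exact h1.symm

/-- a quasi-coherent module with a vanishing stalk has vanishing stalks at all generizations. -/
theorem subsingleton_stalk_of_specializes {X : Scheme.{u}} (F : X.Modules) [F.IsQuasicoherent]
    {x z : X} (h : z ⤳ x) [Subsingleton (F.presheaf.stalk x)] :
    Subsingleton (F.presheaf.stalk z) := by
  letI := Groth.Agent.H2.StalkSpec.specModule F h
  haveI := Groth.Agent.H2.StalkSpec.isLocalizedModule_specLinear F h
  have key : ∀ y : F.presheaf.stalk z, y = 0 := by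
    intro y
    obtain ⟨⟨m, s⟩, hs⟩ := IsLocalizedModule.surj
      (Groth.Agent.H1.StalkGen.primeOf h).asIdeal.primeCompl
      (Groth.Agent.H2.StalkSpec.specLinear F h) y
    have hm : m = 0 := Subsingleton.elim _ _
    rw [hm, map_zero] at hs
    exact IsLocalizedModule.smul_injective (Groth.Agent.H2.StalkSpec.specLinear F h) s
      (hs.trans (smul_zero s).symm)
  exact ⟨fun a b => (key a).trans (key b).symm⟩

variable {n k}

/-- **Auslander–Buchsbaum at a closed point**: depth `> d` gives projective dimension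
`≤ n - d - 1`. -/
theorem pd_of_depth (G : (Proj (CohB1.polyGrading n k)).Modules) (hG : Coh.IsCoh G) (d : ℕ)
    (x : Proj (CohB1.polyGrading n k)) (hx : IsClosed ({x} : Set (Proj (CohB1.polyGrading n k))))
    (hdx : ((d + 1 : ℕ) : ℕ∞) ≤ LocCoh.depth ((Proj (CohB1.polyGrading n k)).presheaf.stalk x)
      (G.presheaf.stalk x)) (hdn : d + 1 ≤ n) :
    HasProjectiveDimensionLT ((DerSch.stalkFunctor (Proj (CohB1.polyGrading n k)) x).obj G)
      (n - d - 1 + 1) := by
  haveI : G.IsQuasicoherent := hG.1
  haveI := isRegularLocalRing_stalk n k x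
  have hdim := ringKrullDim_stalk_of_isClosed n k x hx
  haveI : Module.Finite ((Proj (CohB1.polyGrading n k)).presheaf.stalk x) (G.presheaf.stalk x) :=
    Groth.Agent.H1.CohLen.finite_stalk G hG.2 x
  change HasProjectiveDimensionLT (ModuleCat.of ((Proj (CohB1.polyGrading n k)).presheaf.stalk x)
    (G.presheaf.stalk x)) _
  by_cases hM : Nontrivial (G.presheaf.stalk x)
  · obtain ⟨e, he, h1, h2⟩ := Groth.Agent.H1.AB.exists_pd n hdim (G.presheaf.stalk x)
    have hab := Groth.Agent.H1.AB.auslander_buchsbaum (G.presheaf.stalk x) e h1 h2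
    rw [Groth.Agent.H1.AB.depth_eq_of_isRegularLocalRing n hdim] at hab
    have hle : e + (d + 1) ≤ n := by
      have h3 : ((e + (d + 1) : ℕ) : ℕ∞) ≤ (n : ℕ∞) := by
        rw [hab, Nat.cast_add]
        gcongr
      exact_mod_cast h3
    haveI := h1
    exact hasProjectiveDimensionLT_of_ge _ (e + 1) (n - d - 1 + 1) (by omega)
  · rw [not_nontrivial_iff_subsingleton] at hM
    have hz : IsZero (ModuleCat.of ((Proj (CohB1.polyGrading n k)).presheaf.stalk x)
        (G.presheaf.stalk x)) := ModuleCat.isZero_of_subsingleton _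
    haveI := hz.hasProjectiveDimensionLT_zero
    exact hasProjectiveDimensionLT_of_ge _ 0 _ (by omega)

/-- a stalk at a closed point of depth `> n` vanishes. -/
theorem subsingleton_stalk_of_depth (G : (Proj (CohB1.polyGrading n k)).Modules)
    (hG : Coh.IsCoh G) (d : ℕ)
    (x : Proj (CohB1.polyGrading n k)) (hx : IsClosed ({x} : Set (Proj (CohB1.polyGrading n k))))
    (hdx : ((d + 1 : ℕ) : ℕ∞) ≤ LocCoh.depth ((Proj (CohB1.polyGrading n k)).presheaf.stalk x)
      (G.presheaf.stalk x)) (hdn : n < d + 1) :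
    Subsingleton (G.presheaf.stalk x) := by
  haveI : G.IsQuasicoherent := hG.1
  haveI := isRegularLocalRing_stalk n k x
  have hdim := ringKrullDim_stalk_of_isClosed n k x hx
  haveI : Module.Finite ((Proj (CohB1.polyGrading n k)).presheaf.stalk x) (G.presheaf.stalk x) :=
    Groth.Agent.H1.CohLen.finite_stalk G hG.2 x
  by_contra hcon
  rw [not_subsingleton_iff_nontrivial] at hcon
  haveI := hcon
  obtain ⟨δ, hδ, hle⟩ := Groth.Agent.H6.Depth.exists_depth_eq
    (R := (Proj (CohB1.polyGrading n k)).presheaf.stalk x) (G.presheaf.stalk x)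
  have h1 : ((δ : ℕ) : WithBot ℕ∞) ≤ (n : WithBot ℕ∞) := by
    rw [← hdim]
    exact hle.trans (Module.supportDim_le_ringKrullDim _ _)
  have h2 : δ ≤ n := by exact_mod_cast h1
  rw [hδ] at hdx
  have h3 : d + 1 ≤ δ := by exact_mod_cast hdx
  omega

/-- **vanishing of `H^i(G(-m))`, `m ≫ 0`, `i ≤ d`, for a coherent module on `P^n_k` of depth
`> d` at all closed points.** -/
theorem vanish_of_depth (G : (Proj (CohB1.polyGrading n k)).Modules) (hG : Coh.IsCoh G) (d : ℕ)
    (hdepth : ∀ x : Proj (CohB1.polyGrading n k),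
      IsClosed ({x} : Set (Proj (CohB1.polyGrading n k))) →
      ((d + 1 : ℕ) : ℕ∞) ≤ LocCoh.depth ((Proj (CohB1.polyGrading n k)).presheaf.stalk x)
        (G.presheaf.stalk x))
    (i : ℕ) (hi : i ≤ d) : ∃ m₀ : ℕ, ∀ m : ℕ, m₀ ≤ m →
      Subsingleton (Coh.HH (Proj (CohB1.polyGrading n k)) (tw n k G (-(m : ℤ))) i) := by
  haveI : G.IsQuasicoherent := hG.1
  by_cases hdn : d + 1 ≤ n
  · exact vanish_of_pd n k (n - d - 1) G hG
      (fun x hx => pd_of_depth G hG d x hx (hdepth x hx) hdn) i (by omega)
  · have hz : IsZero G := by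
      apply isZero_of_subsingleton_stalks
      intro y
      obtain ⟨x, hxy, hx⟩ := (isClosed_closure
        (s := ({y} : Set (Proj (CohB1.polyGrading n k))))).exists_closed_singleton
        ⟨y, subset_closure rfl⟩
      haveI : Subsingleton (G.presheaf.stalk x) :=
        subsingleton_stalk_of_depth G hG d x hx (hdepth x hx) (by omega)
      exact subsingleton_stalk_of_specializes G (specializes_iff_mem_closure.mpr hxy)
    refine ⟨0, fun m _ => CL.subsingleton_HH_of_isZero ?_ i⟩
    exact Functor.map_isZero (twF (twist (CohB1.polyGrading n k) (-(m : ℤ)))) hz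

end Groth.Agent.LD.PD
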