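import Groth.Agent.Lib.Lead.PD.HomAdj
import Groth.Agent.Lib.Lead.PD.Depth
import Groth.Agent.Lib.Helper2.HomStalk
import Groth.Agent.H4.FlatPull1

/-! # The sheaf Hom: stalks, epimorphisms and `Ext` of the stalks -/

set_option autoImplicit false
set_option linter.style.haveILetI false
noncomputable section
universe u w v' u'
open CategoryTheory Limits AlgebraicGeometry TopologicalSpace Opposite Abelian

namespace Groth.Agent.LD.PD.HA

/-! ### abstract `Ext` lemmas for a short exact sequence with projective middle term -/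

section Abstract

variable {C : Type u'} [Category.{v'} C] [Abelian C] [HasExt.{w} C]

theorem subsingleton_ext_zero_iff (A Y : C) :
    Subsingleton (Ext A Y 0) ↔ ∀ f : A ⟶ Y, f = 0 := by
  constructor
  · intro h f
    apply (Ext.mk₀_bijective A Y).1
    exact Subsingleton.elim _ _
  · intro h
    refine ⟨fun a b => ?_⟩
    obtain ⟨f, rfl⟩ := (Ext.mk₀_bijective A Y).2 a
    obtain ⟨g, rfl⟩ := (Ext.mk₀_bijective A Y).2 b
    rw [h f, h g]

variable {S : ShortComplex C} (hS : S.ShortExact) (Y : C)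

include hS in
theorem subsingleton_ext_one_iff [Projective S.X₂] :
    Subsingleton (Ext S.X₃ Y 1) ↔ ∀ a : S.X₁ ⟶ Y, ∃ b : S.X₂ ⟶ Y, a = S.f ≫ b := by
  constructor
  · intro h a
    obtain ⟨x₂, hx₂⟩ := Ext.contravariant_sequence_exact₁ hS Y (Ext.mk₀ a) (n₁ := 1) (by omega)
      (Subsingleton.elim _ _)
    obtain ⟨b, rfl⟩ := (Ext.mk₀_bijective _ _).2 x₂
    rw [Ext.mk₀_comp_mk₀] at hx₂
    exact ⟨b, ((Ext.mk₀_bijective _ _).1 hx₂).symm⟩
  · intro h
    refine ⟨fun x y => ?_⟩
    have key : ∀ x₃ : Ext S.X₃ Y 1, x₃ = 0 := by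
      intro x₃
      obtain ⟨x₁, hx₁⟩ := Ext.contravariant_sequence_exact₃ hS Y x₃
        (Ext.eq_zero_of_projective _) (n₀ := 0) (by omega)
      obtain ⟨a, rfl⟩ := (Ext.mk₀_bijective _ _).2 x₁
      obtain ⟨b, rfl⟩ := h a
      rw [← hx₁, ← Ext.mk₀_comp_mk₀]
      exact hS.extClass_comp_assoc (Ext.mk₀ b)
    rw [key x, key y]

include hS in
theorem subsingleton_ext_succ_iff [Projective S.X₂] (j : ℕ) :
    Subsingleton (Ext S.X₃ Y (j + 1 + 1)) ↔ Subsingleton (Ext S.X₁ Y (j + 1)) := by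
  constructor
  · intro h
    refine ⟨fun a b => ?_⟩
    have key : ∀ x₁ : Ext S.X₁ Y (j + 1), x₁ = 0 := by
      intro x₁
      obtain ⟨x₂, hx₂⟩ := Ext.contravariant_sequence_exact₁ hS Y x₁ (n₁ := j + 1 + 1)
        (by omega) (Subsingleton.elim _ _)
      rw [← hx₂, Ext.eq_zero_of_projective x₂, Ext.comp_zero]
    rw [key a, key b]
  · intro h
    refine ⟨fun a b => ?_⟩
    have key : ∀ x₃ : Ext S.X₃ Y (j + 1 + 1), x₃ = 0 := by
      intro x₃
      obtain ⟨x₁, hx₁⟩ := Ext.contravariant_sequence_exact₃ hS Y x₃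
        (Ext.eq_zero_of_projective _) (n₀ := j + 1) (by omega)
      rw [← hx₁, Subsingleton.elim x₁ 0, Ext.comp_zero]
    rw [key a, key b]

end Abstract

open Groth.Agent.H2.HomSh Groth.Agent.LD

attribute [-instance] Groth.Agent.LD.QC.stalkModule

variable {X : Scheme.{u}} {K E Z M : X.Modules}

/-! ### stalks -/

lemma stalkMapₗ_zero (A B : X.Modules) (x : X) :
    RefHull.stalkMapₗ (0 : A ⟶ B) x = 0 := by
  apply LinearMap.ext
  intro v
  obtain ⟨W, hx, m, rfl⟩ := TopCat.Presheaf.exists_germ_eq A.presheaf v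
  rw [RefHull.stalkMapₗ_germ]
  change B.presheaf.germ W x hx 0 = 0
  exact map_zero _

lemma subsingleton_stalk_of_isZero (H : X.Modules) (hz : IsZero H) (x : X) :
    Subsingleton (H.presheaf.stalk x) := by
  have key : ∀ v : H.presheaf.stalk x, v = 0 := by
    intro v
    have h1 : RefHull.stalkMapₗ (𝟙 H) x v = v := by
      obtain ⟨W, hx, m, rfl⟩ := TopCat.Presheaf.exists_germ_eq H.presheaf v
      rw [RefHull.stalkMapₗ_germ]
      rfl
    rw [← h1, hz.eq_of_src (𝟙 H) 0, stalkMapₗ_zero]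
    rfl
  exact ⟨fun a b => (key a).trans (key b).symm⟩

/-- if every morphism `M ⟶ 𝓗om(K, Z)` lifts to `𝓗om(E, Z)` and `𝓗om(K, Z)` is a quotient of a
finite direct sum of copies of `M`, then `𝓗om(u, Z)` is an epimorphism. -/
theorem epi_preHom_of_lift (u : K ⟶ E) (Z M : X.Modules) (N : ℕ)
    (p : (∐ fun _ : Fin N => M) ⟶ RefHull.homSh K Z) [Epi p]
    (h : ∀ ξ : M ⟶ RefHull.homSh K Z, ∃ ζ : M ⟶ RefHull.homSh E Z, ζ ≫ preHom u Z = ξ) :
    Epi (preHom u Z) := by
  choose ζ hζ using fun j : Fin N => h (Sigma.ι (fun _ : Fin N => M) j ≫ p)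
  have hfac : Sigma.desc ζ ≫ preHom u Z = p := by
    apply Sigma.hom_ext
    intro j
    rw [Sigma.ι_desc_assoc, hζ]
  exact epi_of_epi_fac hfac

/-- if `𝓗om(u, Z)` is an epimorphism and `K` is finitely presented, linear maps on the stalks
of `K` extend to the stalks of `E`. -/
theorem stalk_extend_of_epi_preHom (u : K ⟶ E) (Z : X.Modules) (hK : K.IsFinitePresentation)
    (h : Epi (preHom u Z)) (x : X) (θ : RefHull.StalkHom K Z x) :
    ∃ Θ : RefHull.StalkHom E Z x, θ = Θ.comp (RefHull.stalkMapₗ u x) := by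
  have h1 := (Groth.Agent.H4.FlatPull1.epi_iff_stalk (preHom u Z)).mp h x
  rw [ModuleCat.epi_iff_surjective] at h1
  obtain ⟨g, hg⟩ := evalStalk_surjective (G := Z) hK x θ
  obtain ⟨g', hg'⟩ := h1 g
  refine ⟨RefHull.evalStalk E Z x g', ?_⟩
  rw [← evalStalk_preHom, ← stalkFunctor_map_eq, hg', hg]

/-- on a quasi-compact scheme, a quasi-coherent module whose stalks at the closed points vanish
is zero. -/
theorem isZero_of_closed_stalks [CompactSpace X] (C : X.Modules) [C.IsQuasicoherent]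
    (h : ∀ x : X, IsClosed ({x} : Set X) → Subsingleton (C.presheaf.stalk x)) : IsZero C := by
  apply QC.isZero_of_subsingleton_stalks
  intro y
  obtain ⟨x, hxy, hx⟩ := (isClosed_closure (s := ({y} : Set X))).exists_closed_singleton
    ⟨y, subset_closure rfl⟩
  haveI := h x hx
  exact PD.subsingleton_stalk_of_specializes C (specializes_iff_mem_closure.mpr hxy)

/-- the converse at the closed points. -/
theorem epi_preHom_of_closed_points [CompactSpace X] (u : K ⟶ E) (Z : X.Modules)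
    [Z.IsQuasicoherent] (hK : K.IsFinitePresentation) (hE : E.IsFinitePresentation)
    (h : ∀ x : X, IsClosed ({x} : Set X) → ∀ θ : RefHull.StalkHom K Z x,
      ∃ Θ : RefHull.StalkHom E Z x, θ = Θ.comp (RefHull.stalkMapₗ u x)) :
    Epi (preHom u Z) := by
  haveI hqK : (RefHull.homSh K Z).IsQuasicoherent := qc_homSh hK
  haveI hqE : (RefHull.homSh E Z).IsQuasicoherent := qc_homSh hE
  haveI : (cokernel (preHom u Z)).IsQuasicoherent := QC.qc_cokernel _ hqE hqK
  apply Preadditive.epi_of_isZero_cokernel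
  apply isZero_of_closed_stalks
  intro x hx
  have hπ : Epi ((DerSch.stalkFunctor X x).map (cokernel.π (preHom u Z))) :=
    (Groth.Agent.H4.FlatPull1.epi_iff_stalk _).mp inferInstance x
  rw [ModuleCat.epi_iff_surjective] at hπ
  have key : ∀ c : (cokernel (preHom u Z)).presheaf.stalk x, c = 0 := by
    intro c
    obtain ⟨g, rfl⟩ := hπ c
    obtain ⟨Θ, hΘ⟩ := h x hx (RefHull.evalStalk K Z x g)
    obtain ⟨g', hg'⟩ := evalStalk_surjective (G := Z) hE x Θ
    have hgg' : RefHull.stalkMapₗ (preHom u Z) x g' = g := by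
      apply (evalStalk_bijective (G := Z) hK x).1
      rw [evalStalk_preHom, hg', ← hΘ]
    rw [stalkFunctor_map_eq, ← hgg', ← LinearMap.comp_apply, ← HF.stalkMapₗ_comp,
      cokernel.condition, stalkMapₗ_zero]
    rfl
  exact ⟨fun a b => (key a).trans (key b).symm⟩

/-- the stalk Homs vanish if the sheaf Hom does. -/
theorem stalkHom_eq_zero_of_isZero (F Z : X.Modules) (hF : F.IsFinitePresentation)
    (hz : IsZero (RefHull.homSh F Z)) (x : X) (θ : RefHull.StalkHom F Z x) : θ = 0 := by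
  obtain ⟨g, rfl⟩ := evalStalk_surjective (G := Z) hF x θ
  haveI := subsingleton_stalk_of_isZero _ hz x
  rw [Subsingleton.elim g 0, map_zero]

/-- the sheaf Hom vanishes if the stalk Homs at the closed points do. -/
theorem isZero_homSh_of_closed_points [CompactSpace X] (F Z : X.Modules) [Z.IsQuasicoherent]
    (hF : F.IsFinitePresentation)
    (h : ∀ x : X, IsClosed ({x} : Set X) → ∀ θ : RefHull.StalkHom F Z x, θ = 0) :
    IsZero (RefHull.homSh F Z) := by
  haveI : (RefHull.homSh F Z).IsQuasicoherent := qc_homSh hF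
  apply isZero_of_closed_stalks
  intro x hx
  have key : ∀ g : (RefHull.homSh F Z).presheaf.stalk x, g = 0 := by
    intro g
    apply (evalStalk_bijective (G := Z) hF x).1
    rw [map_zero]
    exact h x hx _
  exact ⟨fun a b => (key a).trans (key b).symm⟩

/-- an epimorphism from a finite direct sum of copies of `M` onto a nonzero module has a
nonzero component. -/
theorem eq_zero_of_epi_sigma (M H : X.Modules) (N : ℕ) (p : (∐ fun _ : Fin N => M) ⟶ H) [Epi p]
    (h : ∀ ξ : M ⟶ H, ξ = 0) : IsZero H := by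
  apply IsZero.of_epi_eq_zero p
  apply Sigma.hom_ext
  intro j
  rw [h (Sigma.ι (fun _ : Fin N => M) j ≫ p), comp_zero]

/-! ### `Ext` of the stalks -/

theorem subsingleton_ext_zero_stalk_iff (F Z : X.Modules) (x : X) :
    Subsingleton (Ext ((DerSch.stalkFunctor X x).obj F) ((DerSch.stalkFunctor X x).obj Z) 0) ↔
      ∀ θ : RefHull.StalkHom F Z x, θ = 0 := by
  rw [subsingleton_ext_zero_iff]
  constructor
  · intro h θ
    have h2 := congrArg ModuleCat.Hom.hom (h (ModuleCat.ofHom θ))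
    exact h2
  · intro h f
    apply ModuleCat.hom_ext
    exact h f.hom

theorem subsingleton_ext_one_stalk_iff {S : ShortComplex X.Modules} (hS : S.ShortExact)
    (hE : FlatMod.IsFinLocFree S.X₂) (Z : X.Modules) (x : X) :
    Subsingleton (Ext ((DerSch.stalkFunctor X x).obj S.X₃)
        ((DerSch.stalkFunctor X x).obj Z) 1) ↔
      ∀ θ : RefHull.StalkHom S.X₁ Z x, ∃ Θ : RefHull.StalkHom S.X₂ Z x,
        θ = Θ.comp (RefHull.stalkMapₗ S.f x) := by
  have hTx := Groth.Agent.LD.Syz.shortExact_stalk hS x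
  haveI : Projective (S.map (DerSch.stalkFunctor X x)).X₂ :=
    Groth.Agent.LD.Syz.projective_stalk_of_isFinLocFree _ hE x
  have h1 := subsingleton_ext_one_iff hTx ((DerSch.stalkFunctor X x).obj Z)
  change Subsingleton (Ext (S.map (DerSch.stalkFunctor X x)).X₃ _ 1) ↔ _
  rw [h1]
  constructor
  · intro h θ
    obtain ⟨b, hb⟩ := h (ModuleCat.ofHom θ)
    refine ⟨b.hom, ?_⟩
    apply LinearMap.ext
    intro v
    have h2 := congrArg (fun f => f.hom v) hb
    rw [LinearMap.comp_apply, ← stalkFunctor_map_eq]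
    exact h2
  · intro h a
    obtain ⟨Θ, hΘ⟩ := h a.hom
    refine ⟨ModuleCat.ofHom Θ, ?_⟩
    apply ModuleCat.hom_ext
    apply LinearMap.ext
    intro v
    have h2 := LinearMap.congr_fun hΘ v
    refine h2.trans ?_
    change Θ (RefHull.stalkMapₗ S.f x v) = Θ ((DerSch.stalkFunctor X x).map S.f v)
    rw [stalkFunctor_map_eq]

theorem subsingleton_ext_succ_stalk_iff {S : ShortComplex X.Modules} (hS : S.ShortExact)
    (hE : FlatMod.IsFinLocFree S.X₂) (x : X) (Y : ModuleCat.{u} (X.presheaf.stalk x)) (j : ℕ) :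
    Subsingleton (Ext ((DerSch.stalkFunctor X x).obj S.X₃) Y (j + 1 + 1)) ↔
      Subsingleton (Ext ((DerSch.stalkFunctor X x).obj S.X₁) Y (j + 1)) := by
  have hTx := Groth.Agent.LD.Syz.shortExact_stalk hS x
  haveI : Projective (S.map (DerSch.stalkFunctor X x)).X₂ :=
    Groth.Agent.LD.Syz.projective_stalk_of_isFinLocFree _ hE x
  exact subsingleton_ext_succ_iff hTx Y j

end Groth.Agent.LD.PD.HA
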