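import Groth.Agent.Lib.Lead.QC.TwistExt
import Groth.Agent.Lib.Lead.EZ.HomLocFree
import Groth.Agent.Lib.Lead.QC.LocFree
import Groth.Agent.Lib.Lead.QC.FiniteFree

/-! # The internal hom out of a module and twisting by invertible modules. -/

set_option autoImplicit false
universe u
open CategoryTheory Limits Opposite AlgebraicGeometry TopologicalSpace

namespace Groth.Agent.LD.PD
open Groth.Agent.LD.QC Groth.Agent.LD.MS Groth.Agent.LD.EZ

variable {X : Scheme.{u}}

/-- **`𝓗om(G, B ⊗ L) ≅ 𝓗om(G, B) ⊗ L`** for `L` invertible, naturally in `B`. -/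
noncomputable def sheafHomTwistIso (L L' : X.Modules) (e : CohB1.tensorMod L L' ≅ unitMod X)
    (G : X.Modules) [ModSite.HasSheafHom (O := X.sheaf) G] :
    twF L ⋙ ModSite.sheafHom (O := X.sheaf) G ≅ ModSite.sheafHom (O := X.sheaf) G ⋙ twF L :=
  let adjL : twF L' ⊣ twF L := (twEquiv L L' e).symm.toAdjunction
  let φ : twF G ⋙ twF L' ≅ twF L' ⋙ twF G :=
    (twFComp G L').symm ≪≫ twFCongr (tensorCommGen G L') ≪≫ twFComp L' G
  (((ModSite.sheafHomAdj (O := X.sheaf) G).comp adjL).ofNatIsoLeft φ).rightAdjointUniq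
    (adjL.comp (ModSite.sheafHomAdj (O := X.sheaf) G))

/-- a finite power is a finite copower. -/
noncomputable def powIsoCoprod {A : Type*} [Category A] [Abelian A] (n : ℕ) (M : A) :
    (pow (A := A) (Fin n)).obj M ≅ ∐ fun _ : Fin n => M :=
  haveI : HasFiniteBiproducts A := Abelian.hasFiniteBiproducts
  HasLimit.isoOfNatIso (Discrete.natIso fun _ => Iso.refl _) ≪≫
    (biproduct.isoProduct (fun _ : Fin n => M)).symm ≪≫ biproduct.isoCoproduct (fun _ : Fin n => M)

/-- the inverse of the equivalence applied to a free module. -/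
noncomputable def invFreeIso (U : X.Opens) (n : ℕ) :
    (Scheme.Modules.overEquiv U).inverse.obj (FlatMod.freeMod (↑U) n) ≅
      ∐ fun _ : Fin n => ModSite.unit (X.sheaf.over U) :=
  PreservesCoproduct.iso (Scheme.Modules.overEquiv U).inverse _ ≪≫
    Sigma.mapIso (fun _ => Opens.sheafOfModulesEquivOverInverseUnit U X.ringCatSheaf)

/-- a free localisation gives a free restriction. -/
noncomputable def freeOfRestrIso (D : X.Modules) (U : X.Opens) (n : ℕ)
    (ψ : (rS X.sheaf U).obj D ≅ ∐ fun _ : Fin n => ModSite.unit (X.sheaf.over U)) :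
    D.restrict U.ι ≅ FlatMod.freeMod (↑U) n :=
  (Scheme.Modules.overEquiv U).inverse.preimageIso
    (((Scheme.Modules.overEquiv U).inverse.mapIso
        ((Scheme.Modules.overFunctorEquiv U).app D)).symm ≪≫
      ((Scheme.Modules.overEquiv U).unitIso.app _).symm ≪≫ ψ ≪≫ (invFreeIso U n).symm)

/-- **the internal hom from a finite locally free module to an invertible module is finite
locally free.** -/
theorem isFinLocFree_sheafHom (G ω : X.Modules) (hG : FlatMod.IsFinLocFree G)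
    (hω : PicF.IsInvertible ω) [ModSite.HasSheafHom (O := X.sheaf) G] :
    FlatMod.IsFinLocFree ((ModSite.sheafHom (O := X.sheaf) G).obj ω) := by
  intro x
  obtain ⟨U₁, n, hx₁, ⟨e₁⟩⟩ := hG x
  obtain ⟨U₂, hx₂, ⟨e₂⟩⟩ := (isInvertible_iff ω).mp hω x
  let U : X.Opens := U₁ ⊓ U₂
  have hr₁ : Set.range U.ι ⊆ Set.range U₁.ι := by
    rw [Scheme.Opens.range_ι, Scheme.Opens.range_ι]; exact fun y hy => hy.1
  have hr₂ : Set.range U.ι ⊆ Set.range U₂.ι := by
    rw [Scheme.Opens.range_ι, Scheme.Opens.range_ι]; exact fun y hy => hy.2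
  obtain ⟨eG⟩ := freeMod_of_range_subset G U₁.ι U.ι hr₁ n e₁
  obtain ⟨eω⟩ := freeMod_of_range_subset ω U₂.ι U.ι hr₂ 1 e₂
  refine ⟨U, n, ⟨hx₁, hx₂⟩, ⟨freeOfRestrIso _ U n ?_⟩⟩
  haveI := hasSheafHom ((ModSite.restr X.sheaf U).obj G)
  haveI := hasSheafHom (∐ fun _ : Fin n => ModSite.unit (X.sheaf.over U))
  let ψω : (rS X.sheaf U).obj ω ≅ ModSite.unit (X.sheaf.over U) :=
    restrFreeIso ω U 1 eω ≪≫ coproductUniqueIso _
  exact (sheafHomRestrIso X.sheaf U G).app ω ≪≫
    (sheafHomCongr (X.sheaf.over U) (restrFreeIso G U n eG)).app _ ≪≫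
    (sheafHomFreeIso (X.sheaf.over U) (Fin n)).app _ ≪≫
    (pow (Fin n)).mapIso ψω ≪≫ powIsoCoprod n _

end Groth.Agent.LD.PD
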