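import Groth.Agent.Lib.Lead.HF.Sheaf
import Groth.Agent.Lib.Lead.QC.ResDescFLF
import Groth.Agent.Lib.Lead.QC.TensorDesc
import Groth.Prelude.Def_DerSch

/-! # The sheaf Hom: functoriality in the first variable and the tensor-Hom adjunction

* `preHom u Z : 𝓗om(E, Z) ⟶ 𝓗om(K, Z)` for `u : K ⟶ E`;
* `sharp : (M ⟶ 𝓗om(K, Z)) → (K ⊗ M ⟶ Z)` and `flat` in the other direction (for `K`
  quasi-coherent), with `sharp (flat lam) = lam`, `sharp` injective, and the compatibility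
  `sharp (ζ ≫ preHom u Z) = (u ⊗ M) ≫ sharp ζ`.
-/

set_option autoImplicit false
set_option linter.style.haveILetI false
noncomputable section
universe u
open CategoryTheory Limits AlgebraicGeometry TopologicalSpace Opposite

namespace Groth.Agent.LD.PD.HA

open Groth.Agent.H2.HomSh Groth.Agent.LD

attribute [-instance] Groth.Agent.LD.QC.stalkModule

variable {X : Scheme.{u}} {K E Z M : X.Modules}

/-- precomposition of a section of the sheaf Hom with a morphism. -/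
def preSec (u : K ⟶ E) {U : X.Opens} (g : Γ(RefHull.homSh E Z, U)) :
    Γ(RefHull.homSh K Z, U) :=
  ⟨fun x => (g.1 x).comp (RefHull.stalkMapₗ u x.1), fun V i m x => by
    obtain ⟨W, hxW, j, n, hW⟩ := g.2 V i (u.app V m) x
    refine ⟨W, hxW, j, n, fun y => ?_⟩
    rw [LinearMap.comp_apply, RefHull.stalkMapₗ_germ]
    exact hW y⟩

lemma app_preSec (u : K ⟶ E) {U : X.Opens} (g : Γ(RefHull.homSh E Z, U)) {V : X.Opens}
    (hVU : V ≤ U) (m : Γ(K, V)) :
    app (preSec u g) hVU m = app g hVU (u.app V m) := by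
  apply app_eq_of_germ
  intro y hy
  change Z.presheaf.germ V y hy _ =
    g.1 ⟨y, hVU hy⟩ (RefHull.stalkMapₗ u y (K.presheaf.germ V y hy m))
  rw [RefHull.stalkMapₗ_germ, germ_app]

/-- precomposition as an additive map. -/
def preAdd (Z : X.Modules) (u : K ⟶ E) (U : X.Opens) :
    Γ(RefHull.homSh E Z, U) →+ Γ(RefHull.homSh K Z, U) where
  toFun g := preSec u g
  map_zero' := hom_ext _ _ fun x hx => by
    change (0 : RefHull.StalkHom E Z x).comp (RefHull.stalkMapₗ u x) = 0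
    exact LinearMap.zero_comp _
  map_add' g g' := hom_ext _ _ fun x hx => by
    change (g.1 ⟨x, hx⟩ + g'.1 ⟨x, hx⟩).comp (RefHull.stalkMapₗ u x) =
      (g.1 ⟨x, hx⟩).comp (RefHull.stalkMapₗ u x) + (g'.1 ⟨x, hx⟩).comp (RefHull.stalkMapₗ u x)
    exact LinearMap.add_comp _ _ _

/-- precomposition as a morphism of abelian presheaves. -/
def prePre (Z : X.Modules) (u : K ⟶ E) :
    (RefHull.homSh E Z).presheaf ⟶ (RefHull.homSh K Z).presheaf where
  app U := AddCommGrpCat.ofHom (preAdd Z u U.unop)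
  naturality U V i := by
    ext g
    rfl

lemma prePre_smul (Z : X.Modules) (u : K ⟶ E) (U : X.Opens) (r : Γ(X, U))
    (g : Γ(RefHull.homSh E Z, U)) :
    (prePre Z u).app (op U) (r • g) = r • (prePre Z u).app (op U) g := by
  apply hom_ext
  intro x hx
  change (X.presheaf.germ U x hx r • g.1 ⟨x, hx⟩).comp (RefHull.stalkMapₗ u x) =
    X.presheaf.germ U x hx r • (g.1 ⟨x, hx⟩).comp (RefHull.stalkMapₗ u x)
  exact LinearMap.smul_comp _ _ _

/-- **functoriality of the sheaf Hom in the first variable.** -/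
def preHom (u : K ⟶ E) (Z : X.Modules) : RefHull.homSh E Z ⟶ RefHull.homSh K Z :=
  ⟨PresheafOfModules.homMk (prePre Z u) (fun U r g => prePre_smul Z u U.unop r g)⟩

lemma preHom_app (u : K ⟶ E) (Z : X.Modules) (U : X.Opens) (g : Γ(RefHull.homSh E Z, U)) :
    (preHom u Z).app U g = preSec u g := rfl

lemma evalStalk_preHom (u : K ⟶ E) (Z : X.Modules) (x : X)
    (h : (RefHull.homSh E Z).presheaf.stalk x) :
    RefHull.evalStalk K Z x (RefHull.stalkMapₗ (preHom u Z) x h) =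
      (RefHull.evalStalk E Z x h).comp (RefHull.stalkMapₗ u x) := by
  obtain ⟨W, hxW, g, rfl⟩ := TopCat.Presheaf.exists_germ_eq (RefHull.homSh E Z).presheaf h
  rw [RefHull.stalkMapₗ_germ, RefHull.evalStalk_germ, RefHull.evalStalk_germ]
  rfl

/-- the stalk functor on morphisms is the stalk map. -/
lemma stalkFunctor_map_eq {A B : X.Modules} (φ : A ⟶ B) (x : X) (v : A.presheaf.stalk x) :
    (DerSch.stalkFunctor X x).map φ v = RefHull.stalkMapₗ φ x v := by
  obtain ⟨W, hx, m, rfl⟩ := TopCat.Presheaf.exists_germ_eq A.presheaf v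
  rw [RefHull.stalkMapₗ_germ]
  exact DerSch.stalkFunctor_map_germ x φ W hx m

/-! ### the adjunction -/

/-- `♯`: from `M ⟶ 𝓗om(K, Z)` to `K ⊗ M ⟶ Z`. -/
def sharp (ξ : M ⟶ RefHull.homSh K Z) : CohB1.tensorMod K M ⟶ Z :=
  KoszTw.tensorMap (𝟙 K) ξ ≫ ResDesc.evHom K Z

lemma sharp_app_tmul (ξ : M ⟶ RefHull.homSh K Z) (U : X.Opens) (v : Γ(K, U)) (μ : Γ(M, U)) :
    (sharp ξ).app U (SecTwist.tmul K M U v μ) = app (ξ.app U μ) le_rfl v := by
  change (ResDesc.evHom K Z).app U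
    ((KoszTw.tensorMap (𝟙 K) ξ).app U (SecTwist.tmul K M U v μ)) = _
  rw [KoszTw.tensorMap_tmul, ResDesc.evHom_app_tmul]
  rfl

lemma sharp_zero : sharp (0 : M ⟶ RefHull.homSh K Z) = 0 := by
  apply QC.hom_ext_tmul
  intro U v μ
  rw [sharp_app_tmul]
  change app (0 : Γ(RefHull.homSh K Z, U)) le_rfl v = 0
  exact app_zero_hom le_rfl v

lemma sharp_injective [K.IsQuasicoherent] (ξ ξ' : M ⟶ RefHull.homSh K Z)
    (h : sharp ξ = sharp ξ') : ξ = ξ' := by
  apply QC.hom_ext_affine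
  intro U μ
  apply appLin_injective U.2
  apply LinearMap.ext
  intro v
  change app (ξ.app U.1 μ) le_rfl v = app (ξ'.app U.1 μ) le_rfl v
  rw [← sharp_app_tmul, ← sharp_app_tmul, h]

/-- the bilinear map attached to a morphism out of the tensor product. -/
def flatBil (lam : CohB1.tensorMod K M ⟶ Z) (U : X.Opens) :
    Γ(M, U) →ₗ[Γ(X, U)] Γ(K, U) →ₗ[Γ(X, U)] Γ(Z, U) :=
  LinearMap.mk₂ Γ(X, U) (fun μ v => QC.appLinear lam U (SecTwist.tmul K M U v μ))
    (fun μ μ' v => by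
      show QC.appLinear lam U (SecTwist.tmul K M U v (μ + μ')) =
        QC.appLinear lam U (SecTwist.tmul K M U v μ) + QC.appLinear lam U (SecTwist.tmul K M U v μ')
      rw [QC.tmul_add_right]
      exact (QC.appLinear lam U).map_add _ _)
    (fun c μ v => by
      show QC.appLinear lam U (SecTwist.tmul K M U v (c • μ)) =
        c • QC.appLinear lam U (SecTwist.tmul K M U v μ)
      rw [QC.tmul_smul_right]
      exact (QC.appLinear lam U).map_smul _ _)
    (fun μ v v' => by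
      show QC.appLinear lam U (SecTwist.tmul K M U (v + v') μ) =
        QC.appLinear lam U (SecTwist.tmul K M U v μ) + QC.appLinear lam U (SecTwist.tmul K M U v' μ)
      rw [QC.tmul_add_left]
      exact (QC.appLinear lam U).map_add _ _)
    (fun c μ v => by
      show QC.appLinear lam U (SecTwist.tmul K M U (c • v) μ) =
        c • QC.appLinear lam U (SecTwist.tmul K M U v μ)
      rw [QC.tmul_smul_left]
      exact (QC.appLinear lam U).map_smul _ _)

/-- `♭` on an affine open. -/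
def flatLin [K.IsQuasicoherent] (lam : CohB1.tensorMod K M ⟶ Z) (U : X.affineOpens) :
    Γ(M, U.1) →ₗ[Γ(X, U.1)] Γ(RefHull.homSh K Z, U.1) :=
  (secEquiv (F := K) (G := Z) U.2).symm.toLinearMap ∘ₗ flatBil lam U.1

lemma app_flatLin [K.IsQuasicoherent] (lam : CohB1.tensorMod K M ⟶ Z) (U : X.affineOpens)
    (μ : Γ(M, U.1)) (v : Γ(K, U.1)) :
    app (flatLin lam U μ) le_rfl v = lam.app U.1 (SecTwist.tmul K M U.1 v μ) := by
  have h : secEquiv (F := K) (G := Z) U.2 (flatLin lam U μ) = flatBil lam U.1 μ :=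
    LinearEquiv.apply_symm_apply _ _
  exact LinearMap.congr_fun h v

/-- `♭`: from `K ⊗ M ⟶ Z` to `M ⟶ 𝓗om(K, Z)`. -/
def flat [K.IsQuasicoherent] (lam : CohB1.tensorMod K M ⟶ Z) : M ⟶ RefHull.homSh K Z :=
  QC.homOfAffine M (RefHull.homSh K Z) (fun U => flatLin lam U) (by
    intro U V h μ
    apply hom_ext_affine U.2 h
    intro m
    rw [app_res_hom h (flatLin lam U μ) le_rfl, app_res (flatLin lam U μ) le_rfl h m,
      app_flatLin, app_flatLin, ← QC.tmul_res, QC.app_res])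

lemma flat_app [K.IsQuasicoherent] (lam : CohB1.tensorMod K M ⟶ Z) (U : X.affineOpens)
    (μ : Γ(M, U.1)) : (flat lam).app U.1 μ = flatLin lam U μ :=
  QC.homOfAffine_app _ _ _ _ U μ

lemma sharp_flat [K.IsQuasicoherent] [M.IsQuasicoherent] (lam : CohB1.tensorMod K M ⟶ Z) :
    sharp (flat lam) = lam := by
  apply QC.hom_ext_affine
  intro U s
  induction s using QC.tmul_induction K M U.2 with
  | h0 => rw [map_zero, map_zero]
  | htmul v μ => rw [sharp_app_tmul, flat_app, app_flatLin]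
  | hadd a b ha hb => rw [map_add, map_add, ha, hb]

lemma sharp_preHom (u : K ⟶ E) (ζ : M ⟶ RefHull.homSh E Z) :
    sharp (ζ ≫ preHom u Z) = KoszTw.tensorMap u (𝟙 M) ≫ sharp ζ := by
  apply QC.hom_ext_tmul
  intro U v μ
  rw [sharp_app_tmul]
  change app (preSec u (ζ.app U μ)) le_rfl v =
    (sharp ζ).app U ((KoszTw.tensorMap u (𝟙 M)).app U (SecTwist.tmul K M U v μ))
  rw [KoszTw.tensorMap_tmul, sharp_app_tmul, app_preSec]
  rfl

/-- if all morphisms `K ⊗ M ⟶ Z` extend along `u ⊗ M`, all morphisms `M ⟶ 𝓗om(K, Z)` lift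
along `𝓗om(u, Z)`. -/
theorem lift_of_extend [K.IsQuasicoherent] [E.IsQuasicoherent] [M.IsQuasicoherent] (u : K ⟶ E)
    (h : ∀ lam : CohB1.tensorMod K M ⟶ Z, ∃ Lam : CohB1.tensorMod E M ⟶ Z,
      lam = KoszTw.tensorMap u (𝟙 M) ≫ Lam)
    (ξ : M ⟶ RefHull.homSh K Z) : ∃ ζ : M ⟶ RefHull.homSh E Z, ζ ≫ preHom u Z = ξ := by
  obtain ⟨Lam, hLam⟩ := h (sharp ξ)
  refine ⟨flat Lam, sharp_injective _ _ ?_⟩
  rw [sharp_preHom, sharp_flat, ← hLam]

/-- if all morphisms `M ⟶ 𝓗om(K, Z)` lift along `𝓗om(u, Z)`, all morphisms `K ⊗ M ⟶ Z` extend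
along `u ⊗ M`. -/
theorem extend_of_lift [K.IsQuasicoherent] [M.IsQuasicoherent] (u : K ⟶ E)
    (h : ∀ ξ : M ⟶ RefHull.homSh K Z, ∃ ζ : M ⟶ RefHull.homSh E Z, ζ ≫ preHom u Z = ξ)
    (lam : CohB1.tensorMod K M ⟶ Z) : ∃ Lam : CohB1.tensorMod E M ⟶ Z,
      lam = KoszTw.tensorMap u (𝟙 M) ≫ Lam := by
  obtain ⟨ζ, hζ⟩ := h (flat lam)
  refine ⟨sharp ζ, ?_⟩
  rw [← sharp_preHom, hζ, sharp_flat]

end Groth.Agent.LD.PD.HA
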