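import Groth.Agent.Lib.Lead.PD.LefCoh
import Groth.Agent.Lib.Helper5.AG.ProjProper

/-! # Connectedness of a closed subscheme from the vanishing of `H¹` of its ideal -/

set_option autoImplicit false
universe u
open CategoryTheory Limits Opposite Abelian AlgebraicGeometry TopologicalSpace

namespace Groth.Agent.LD.PD
open Groth.Agent.LD.QC Groth.Agent.LD Groth.Agent.LD.CL

/-- if `H¹` of the ideal module vanishes, the global functions of `X` surject onto those of the
closed subscheme. -/
theorem surjective_appTop_subschemeι (k : Type u) [Field k] {X : Scheme.{u}}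
    [X.Over (Spec (CommRingCat.of k))] (J : X.IdealSheafData)
    (h1 : Subsingleton (Coh.HH X (ClSub.idealMod J) 1)) :
    Function.Surjective J.subschemeι.appTop.hom := by
  have hS := shortExact_idealMod J
  intro b
  obtain ⟨x₃, hx₃⟩ : ∃ x₃ : Coh.HH X (ClSub.quotMod J) 0,
      HH0Equiv (ClSub.quotMod J) x₃ = b := ⟨(HH0Equiv (ClSub.quotMod J)).symm b,
        AddEquiv.apply_symm_apply _ _⟩
  obtain ⟨x₂, hx₂⟩ := exact₃ hS k 0 x₃ (Subsingleton.elim _ _)
  refine ⟨HH0Equiv (unitMod X) x₂, ?_⟩
  have h3 := Groth.Agent.LD.NegTwist.HH0Equiv_HHmap k X (ClSub.toSubscheme J) x₂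
  have hx₂' : HHmap k (ClSub.toSubscheme J) 0 x₂ = x₃ := hx₂
  rw [hx₂', hx₃] at h3
  exact h3.symm

/-- a nonempty closed subscheme of an integral scheme, proper over a field, whose ideal has
vanishing `H¹`, is connected. -/
theorem connectedSpace_subscheme_of_H1 (k : Type u) [Field k] {X : Scheme.{u}}
    [X.Over (Spec (CommRingCat.of k))] [IsIntegral X]
    [UniversallyClosed (X ↘ Spec (CommRingCat.of k))] (J : X.IdealSheafData)
    [Nonempty J.subscheme]
    (h1 : Subsingleton (Coh.HH X (ClSub.idealMod J) 1)) :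
    ConnectedSpace J.subscheme := by
  have hfield : IsField Γ(X, ⊤) := isField_of_universallyClosed k (X ↘ Spec (CommRingCat.of k))
  have hsurj := surjective_appTop_subschemeι k J h1
  haveI : Nonempty (⊤ : J.subscheme.Opens) := ⟨⟨Classical.arbitrary _, trivial⟩⟩
  haveI : Nontrivial Γ(J.subscheme, ⊤) := inferInstance
  letI := hfield.toField
  have hinj : Function.Injective J.subschemeι.appTop.hom := RingHom.injective _
  exact connectedSpace_of_bijective_appTop J.subschemeι ⟨hinj, hsurj⟩

end Groth.Agent.LD.PD
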