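import Groth.Agent.Lib.Lead.PD.Converse
import Groth.Agent.Lib.Lead.PD.Sub
import Groth.Agent.Lib.Helper6.PdExt
import Groth.Agent.Lib.Helper6.LDGor
import Groth.Agent.Lib.Helper6.InjHull
import Groth.Agent.Lib.Helper6.LCGroVanish
import Groth.Agent.Lib.Helper1.RegGlobal
import Groth.Agent.H4.RG4

/-! # The converse depth criterion on projective space: depth and local cohomology -/

set_option autoImplicit false
set_option linter.style.haveILetI false
noncomputable section
universe u
open CategoryTheory Limits AlgebraicGeometry TopologicalSpace Opposite Abelian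

namespace Groth.Agent.LD.PD.HA

open Twist Groth.Agent.LD.QC Groth.Agent.LD Groth.Agent.LD.PN Groth.Agent.LD.TW

attribute [-instance] Groth.Agent.LD.QC.stalkModule

/-- a regular local ring is Gorenstein. -/
theorem isGorensteinLocalRing_of_isRegularLocalRing (A : Type u) [CommRing A]
    [IsRegularLocalRing A] (d : ℕ) (hd : ringKrullDim A = d) :
    LocCoh.IsGorensteinLocalRing A :=
  { exists_hasInjectiveDimensionLT := ⟨d + 1, HasInjectiveDimensionLT.mk (fun i hi Y e => by
      haveI := Groth.Agent.H1.Reg.hasProjectiveDimensionLT_of_isRegularLocalRing A d hd Y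
      exact (HasProjectiveDimensionLT.subsingleton Y (d + 1) i hi _).elim _ _)⟩ }

/-- local duality over a regular local ring, vanishing form. -/
theorem lc_iff_ext (A : Type u) [CommRing A] [IsRegularLocalRing A] (r : ℕ)
    (hr : ringKrullDim A = r) (M : Type u) [AddCommGroup M] [Module A M] [Module.Finite A M]
    (i j : ℕ) (hij : i + j = r) :
    Subsingleton (LocCoh.H (IsLocalRing.maximalIdeal A) i M) ↔
      Subsingleton (Ext (ModuleCat.of A M) (ModuleCat.of A A) j) := by
  haveI := isGorensteinLocalRing_of_isRegularLocalRing A r hr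
  obtain ⟨E, _, _, f, hf⟩ :=
    Groth.Agent.H6.IH.exists_injectiveHull (R := A) (IsLocalRing.ResidueField A)
  obtain ⟨e⟩ := Groth.Agent.H6.LD.local_duality_gorenstein r hr E f hf M j i (by omega)
  rw [← Groth.Agent.H4.RG4.subsingleton_dual_iff E f hf
    (Ext (ModuleCat.of A M) (ModuleCat.of A A) j)]
  exact e.toEquiv.subsingleton_congr

variable (r : ℕ) (k : Type u) [Field k]

/-- **vanishing of `H^i(F(-m))`, `m ≫ 0`, for all `i ≤ n` forces depth `> n` at the closed
points.** -/
theorem lt_depth_of_van (F : (Proj (CohB1.polyGrading r k)).Modules) (hF : Coh.IsCoh F) (n : ℕ)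
    (hv : ∀ i : ℕ, i ≤ n → Van r k F i) (x : Proj (CohB1.polyGrading r k))
    (hx : IsClosed ({x} : Set (Proj (CohB1.polyGrading r k)))) :
    (n : ℕ∞) < LocCoh.depth ((Proj (CohB1.polyGrading r k)).presheaf.stalk x)
      (F.presheaf.stalk x) := by
  haveI : F.IsQuasicoherent := hF.1
  haveI := PD.isRegularLocalRing_stalk r k x
  have hdim := PD.ringKrullDim_stalk_of_isClosed r k x hx
  haveI : Module.Finite ((Proj (CohB1.polyGrading r k)).presheaf.stalk x) (F.presheaf.stalk x) :=
    Groth.Agent.H1.CohLen.finite_stalk F hF.2 x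
  by_cases hM : Nontrivial (F.presheaf.stalk x)
  · obtain ⟨e, he, h1, h2⟩ := Groth.Agent.H1.AB.exists_pd r hdim (F.presheaf.stalk x)
    have hab := Groth.Agent.H1.AB.auslander_buchsbaum (F.presheaf.stalk x) e h1 h2
    rw [Groth.Agent.H1.AB.depth_eq_of_isRegularLocalRing r hdim] at hab
    obtain ⟨d, hd, -⟩ := Groth.Agent.H6.Depth.exists_depth_eq
      (R := (Proj (CohB1.polyGrading r k)).presheaf.stalk x) (F.presheaf.stalk x)
    rw [hd] at hab ⊢
    have hed : r = e + d := by exact_mod_cast hab
    by_contra hcon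
    have hdn : d ≤ n := by
      by_contra h'
      exact hcon (by exact_mod_cast (show n < d by omega))
    haveI h3 := (main r k F hF d e (by omega)).1 (hv d hdn) x
    haveI := Groth.Agent.H6.Bass.ext_self_nontrivial_of_pd (F.presheaf.stalk x) e h1 h2
    exact false_of_nontrivial_of_subsingleton
      (Ext (ModuleCat.of ((Proj (CohB1.polyGrading r k)).presheaf.stalk x) (F.presheaf.stalk x))
        (ModuleCat.of ((Proj (CohB1.polyGrading r k)).presheaf.stalk x)
          ((Proj (CohB1.polyGrading r k)).presheaf.stalk x)) e)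
  · rw [not_nontrivial_iff_subsingleton] at hM
    rw [PD.depth_eq_top_of_subsingleton]
    exact ENat.coe_lt_top n

/-- **the depth criterion on `P^r_k`.** -/
theorem van_all_iff_depth (F : (Proj (CohB1.polyGrading r k)).Modules) (hF : Coh.IsCoh F)
    (n : ℕ) :
    (∀ i : ℕ, i ≤ n → Van r k F i) ↔
      ∀ x : Proj (CohB1.polyGrading r k),
        IsClosed ({x} : Set (Proj (CohB1.polyGrading r k))) →
        (n : ℕ∞) < LocCoh.depth ((Proj (CohB1.polyGrading r k)).presheaf.stalk x)
          (F.presheaf.stalk x) := by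
  constructor
  · intro hv x hx
    exact lt_depth_of_van r k F hF n hv x hx
  · intro h i hi
    refine PD.vanish_of_depth F hF n (fun x hx => ?_) i hi
    have h1 := Order.add_one_le_of_lt (h x hx)
    exact_mod_cast h1

/-- **the local cohomology criterion on `P^r_k`.** -/
theorem van_iff_lc (F : (Proj (CohB1.polyGrading r k)).Modules) (hF : Coh.IsCoh F) (i : ℕ) :
    Van r k F i ↔ ∀ x : Proj (CohB1.polyGrading r k),
      IsClosed ({x} : Set (Proj (CohB1.polyGrading r k))) →
      Subsingleton (LocCoh.H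
        (IsLocalRing.maximalIdeal ((Proj (CohB1.polyGrading r k)).presheaf.stalk x)) i
        (F.presheaf.stalk x)) := by
  haveI : F.IsQuasicoherent := hF.1
  by_cases hi : i ≤ r
  · obtain ⟨j, hj⟩ : ∃ j, i + j = r := ⟨r - i, by omega⟩
    obtain ⟨h1, h2⟩ := main r k F hF i j hj
    constructor
    · intro hv x hx
      haveI := PD.isRegularLocalRing_stalk r k x
      haveI : Module.Finite ((Proj (CohB1.polyGrading r k)).presheaf.stalk x)
          (F.presheaf.stalk x) := Groth.Agent.H1.CohLen.finite_stalk F hF.2 x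
      exact (lc_iff_ext _ r (PD.ringKrullDim_stalk_of_isClosed r k x hx) _ i j hj).mpr (h1 hv x)
    · intro h
      apply h2
      intro x hx
      haveI := PD.isRegularLocalRing_stalk r k x
      haveI : Module.Finite ((Proj (CohB1.polyGrading r k)).presheaf.stalk x)
          (F.presheaf.stalk x) := Groth.Agent.H1.CohLen.finite_stalk F hF.2 x
      exact (lc_iff_ext _ r (PD.ringKrullDim_stalk_of_isClosed r k x hx) _ i j hj).mp (h x hx)
  · constructor
    · intro _ x hx
      haveI := PD.isRegularLocalRing_stalk r k x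
      haveI : Module.Finite ((Proj (CohB1.polyGrading r k)).presheaf.stalk x)
          (F.presheaf.stalk x) := Groth.Agent.H1.CohLen.finite_stalk F hF.2 x
      have hdim := PD.ringKrullDim_stalk_of_isClosed r k x hx
      apply Groth.Agent.H6.LC.subsingleton_of_supportDim_lt
      refine lt_of_le_of_lt (Module.supportDim_le_ringKrullDim _ _) ?_
      rw [hdim]
      exact_mod_cast (show r < i by omega)
    · intro _
      refine ⟨0, fun m _ => ?_⟩
      haveI : (tw r k F (-(m : ℤ))).IsQuasicoherent := (isCoh_twist r k F hF _).1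
      exact subsingleton_HH_of_lt r k _ i (by omega)

/-! ### integer bounds -/

theorem van_iff_int (F : (Proj (CohB1.polyGrading r k)).Modules) (i : ℕ) :
    (∃ m₀ : ℤ, ∀ m : ℤ, m₀ ≤ m → Subsingleton (Coh.HH (Proj (CohB1.polyGrading r k))
      (Twist.twistBy (CohB1.polyGrading r k) F (-m)) i)) ↔ Van r k F i := by
  constructor
  · rintro ⟨m₀, hm₀⟩
    exact ⟨m₀.toNat, fun m hm => hm₀ (m : ℤ) (by omega)⟩
  · rintro ⟨m₀, hm₀⟩
    refine ⟨(m₀ : ℤ), fun m hm => ?_⟩
    have hm' : m = ((m.toNat : ℕ) : ℤ) := by omega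
    rw [hm']
    exact hm₀ m.toNat (by omega)

theorem van_all_iff_int (F : (Proj (CohB1.polyGrading r k)).Modules) (n : ℕ) :
    (∃ m₀ : ℤ, ∀ m : ℤ, m₀ ≤ m → ∀ i : ℕ, i ≤ n →
      Subsingleton (Coh.HH (Proj (CohB1.polyGrading r k))
        (Twist.twistBy (CohB1.polyGrading r k) F (-m)) i)) ↔ ∀ i : ℕ, i ≤ n → Van r k F i := by
  constructor
  · rintro ⟨m₀, hm₀⟩ i hi
    exact ⟨m₀.toNat, fun m hm => hm₀ (m : ℤ) (by omega) i hi⟩
  · intro h
    choose f hf using fun i : Fin (n + 1) => h i.1 (by omega)
    refine ⟨((Finset.univ.sup f : ℕ) : ℤ), fun m hm i hi => ?_⟩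
    have hm' : m = ((m.toNat : ℕ) : ℤ) := by omega
    rw [hm']
    have hle : f ⟨i, by omega⟩ ≤ Finset.univ.sup f := Finset.le_sup (Finset.mem_univ _)
    exact hf ⟨i, by omega⟩ m.toNat (by omega)

end Groth.Agent.LD.PD.HA
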