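import Groth.Agent.Lib.Lead.PD.HomTwist
import Groth.Agent.Lib.Lead.PN.SerreDualLocFree
import Groth.Agent.Lib.Lead.PN.ExtTwist
import Groth.Agent.Lib.Lead.PN.RegExt
import Groth.Agent.Lib.Lead.Syz
import Groth.Agent.Lib.Lead.SC.LocFreeVanish
import Groth.Agent.Lib.Lead.QC.LocFree2

/-! # Vanishing of the cohomology of large negative twists on projective space, in terms of the
projective dimension of the stalks at closed points. -/

set_option autoImplicit false
universe u
open CategoryTheory Limits Opposite Abelian AlgebraicGeometry TopologicalSpace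

namespace Groth.Agent.LD.PD
open Twist Groth.Agent.LD.EZ Groth.Agent.LD.MS Groth.Agent.LD.QC Groth.Agent.LD Groth.Agent.LD.PN

attribute [-instance] Groth.Agent.LD.QC.stalkModule

variable (n : ℕ) (k : Type u) [Field k]

/-- **base case**: for a finite locally free module `G` on `P^n_k`, `H^i(G(-m)) = 0` for `i < n`
and `m ≫ 0`. -/
theorem vanish_of_isFinLocFree (G : (Proj (CohB1.polyGrading n k)).Modules)
    (hG : FlatMod.IsFinLocFree G) (i : ℕ) (hi : i < n) :
    ∃ m₀ : ℕ, ∀ m : ℕ, m₀ ≤ m → Subsingleton (Coh.HH (Proj (CohB1.polyGrading n k))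
      (tw n k G (-(m : ℤ))) i) := by
  haveI : ModSite.HasSheafHom (O := (Proj (CohB1.polyGrading n k)).sheaf) G := hasSheafHom _
  haveI := Groth.Agent.H1.sheafOfModules_isGrothendieckAbelian
    (Opens.grothendieckTopology (Proj (CohB1.polyGrading n k)))
    (Proj (CohB1.polyGrading n k)).ringCatSheaf
  haveI : EnoughInjectives (Proj (CohB1.polyGrading n k)).Modules :=
    inferInstanceAs (EnoughInjectives
      (SheafOfModules.{u} (Proj (CohB1.polyGrading n k)).ringCatSheaf))
  haveI : HasExt.{u} (Proj (CohB1.polyGrading n k)).Modules :=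
    hasExt_of_enoughInjectives.{u} _
  obtain ⟨ω, hω⟩ : ∃ ω : (Proj (CohB1.polyGrading n k)).Modules,
      ω = twist (CohB1.polyGrading n k) (-((n : ℤ) + 1)) := ⟨_, rfl⟩
  have hωinv : PicF.IsInvertible ω := by rw [hω]; exact isInvertible_twist n k _
  obtain ⟨D, hDdef⟩ : ∃ D : (Proj (CohB1.polyGrading n k)).Modules,
      D = (ModSite.sheafHom (O := (Proj (CohB1.polyGrading n k)).sheaf) G).obj ω := ⟨_, rfl⟩
  have hDlf : FlatMod.IsFinLocFree D := by
    rw [hDdef]; exact isFinLocFree_sheafHom G ω hG hωinv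
  have hD : Coh.IsCoh D := by
    haveI := isFinitePresentation_of_isFinLocFree D hDlf
    exact ⟨inferInstance, inferInstance⟩
  have hGcoh : Coh.IsCoh G := by
    haveI := isFinitePresentation_of_isFinLocFree G hG
    exact ⟨inferInstance, inferInstance⟩
  obtain ⟨d₀, hd₀⟩ := serre_vanishing' n k D hD
  refine ⟨d₀.toNat, fun m hm => ?_⟩
  have hmd : d₀ ≤ (m : ℤ) := by omega
  have hF' : Coh.IsCoh (tw n k G (-(m : ℤ))) := isCoh_twist n k G hGcoh _
  obtain ⟨e1⟩ := (serre_duality_ext n k (tw n k G (-(m : ℤ))) hF' (n - i)).1 i (by omega)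
  rw [← hω] at e1
  obtain ⟨e2⟩ := QC.nonempty_ext_twist_equiv (twist (CohB1.polyGrading n k) (m : ℤ))
    (twist (CohB1.polyGrading n k) (-(m : ℤ))) (twistInvIso n k (m : ℤ))
    (tw n k G (-(m : ℤ))) ω (n - i)
  let ι1 : CohB1.tensorMod (tw n k G (-(m : ℤ))) (twist (CohB1.polyGrading n k) (m : ℤ)) ≅ G :=
    ((twFComp (twist (CohB1.polyGrading n k) (-(m : ℤ)))
        (twist (CohB1.polyGrading n k) (m : ℤ))).app G).symm ≪≫
      (twFCongr (twistMulIso n k (-(m : ℤ)) (m : ℤ) 0 (by ring) ≪≫
        Groth.Agent.LD.TW.twistZeroIso (CohB1.polyGrading n k))).app G ≪≫ twFUnit.app G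
  obtain ⟨e4⟩ := nonempty_ext_linearEquiv_HH_sheafHom k G
    (CohB1.tensorMod ω (twist (CohB1.polyGrading n k) (m : ℤ))) hG (n - i)
  let ι2 : (ModSite.sheafHom (O := (Proj (CohB1.polyGrading n k)).sheaf) G).obj
      (CohB1.tensorMod ω (twist (CohB1.polyGrading n k) (m : ℤ))) ≅
      CohB1.tensorMod D (twist (CohB1.polyGrading n k) (m : ℤ)) := by
    rw [hDdef]
    exact (sheafHomTwistIso (twist (CohB1.polyGrading n k) (m : ℤ))
      (twist (CohB1.polyGrading n k) (-(m : ℤ))) (twistInvIso n k (m : ℤ)) G).app ω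
  have h5 : Subsingleton (Coh.HH (Proj (CohB1.polyGrading n k))
      (CohB1.tensorMod D (twist (CohB1.polyGrading n k) (m : ℤ))) (n - i)) :=
    hd₀ (m : ℤ) hmd (n - i) (by omega)
  haveI h4 : Subsingleton (Coh.HH (Proj (CohB1.polyGrading n k))
      ((ModSite.sheafHom (O := (Proj (CohB1.polyGrading n k)).sheaf) G).obj
        (CohB1.tensorMod ω (twist (CohB1.polyGrading n k) (m : ℤ)))) (n - i)) :=
    CL.subsingleton_of_iso ι2.symm (n - i) h5
  haveI h3 : Subsingleton (Ext G (CohB1.tensorMod ω (twist (CohB1.polyGrading n k) (m : ℤ)))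
      (n - i)) := e4.toEquiv.subsingleton
  haveI h2 : Subsingleton (Ext (CohB1.tensorMod (tw n k G (-(m : ℤ)))
      (twist (CohB1.polyGrading n k) (m : ℤ)))
      (CohB1.tensorMod ω (twist (CohB1.polyGrading n k) (m : ℤ))) (n - i)) :=
    (QC.extEquivLeft ι1 _ (n - i)).toEquiv.subsingleton
  haveI h1 : Subsingleton (Ext (tw n k G (-(m : ℤ))) ω (n - i)) := e2.toEquiv.subsingleton
  haveI h0 : Subsingleton (Module.Dual k (Coh.HH (Proj (CohB1.polyGrading n k))
      (tw n k G (-(m : ℤ))) i)) := e1.symm.toEquiv.subsingleton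
  exact (Module.subsingleton_dual_iff k).mp h0

/-- **vanishing of `H^i(G(-m))`, `m ≫ 0`, for `i + pd G < n`**, the projective dimension being
bounded at the closed points only. -/
theorem vanish_of_pd : ∀ (s : ℕ) (G : (Proj (CohB1.polyGrading n k)).Modules), Coh.IsCoh G →
    (∀ x : (Proj (CohB1.polyGrading n k)), IsClosed ({x} : Set (Proj (CohB1.polyGrading n k))) →
      HasProjectiveDimensionLT
        ((DerSch.stalkFunctor (Proj (CohB1.polyGrading n k)) x).obj G) (s + 1)) →
    ∀ i : ℕ, i + s < n → ∃ m₀ : ℕ, ∀ m : ℕ, m₀ ≤ m →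
      Subsingleton (Coh.HH (Proj (CohB1.polyGrading n k)) (tw n k G (-(m : ℤ))) i) := by
  intro s
  induction s with
  | zero =>
    intro G hG h i hi
    refine vanish_of_isFinLocFree n k G ?_ i (by omega)
    haveI : G.IsQuasicoherent := hG.1
    have hfp : G.IsFinitePresentation := isFinitePresentation_of_qc_ft G hG.1 hG.2
    intro y
    obtain ⟨x, hxy, hx⟩ := (isClosed_closure (s := ({y} : Set (Proj (CohB1.polyGrading n k))))).exists_closed_singleton
      ⟨y, subset_closure rfl⟩
    haveI := h x hx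
    have hproj : Projective ((DerSch.stalkFunctor (Proj (CohB1.polyGrading n k)) x).obj G) :=
      inferInstance
    haveI : Module.Projective ((Proj (CohB1.polyGrading n k)).presheaf.stalk x)
        (G.presheaf.stalk x) :=
      (IsProjective.iff_projective (R := (Proj (CohB1.polyGrading n k)).presheaf.stalk x)
        (G.presheaf.stalk x)).mpr hproj
    obtain ⟨V, r, hxV, e⟩ := exists_restrict_iso_freeMod_of_flat_stalk G hfp x inferInstance
    have hyx : y ⤳ x := specializes_iff_mem_closure.mpr hxy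
    exact ⟨V, r, hyx.mem_open V.2 hxV, e⟩
  | succ s ih =>
    intro G hG h i hi
    obtain ⟨m₀', r, p, hp, hK, -⟩ := exists_resolution n k G hG
    have hS : (ShortComplex.mk (kernel.ι p) p (kernel.condition p)).ShortExact :=
      { exact := ShortComplex.exact_of_f_is_kernel _ (kernelIsKernel p)
        mono_f := inferInstanceAs (Mono (kernel.ι p))
        epi_g := hp }
    have hElf : FlatMod.IsFinLocFree (∐ fun _ : Fin r =>
        twist (CohB1.polyGrading n k) (-((n : ℤ) + 1 + m₀'))) :=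
      Groth.Agent.LD.SC.isFinLocFree_sigma_of_isInvertible _ (isInvertible_twist n k _) r
    have hKpd : ∀ x : (Proj (CohB1.polyGrading n k)),
        IsClosed ({x} : Set (Proj (CohB1.polyGrading n k))) →
        HasProjectiveDimensionLT
          ((DerSch.stalkFunctor (Proj (CohB1.polyGrading n k)) x).obj (kernel p)) (s + 1) := by
      intro x hx
      have hTx := Groth.Agent.LD.Syz.shortExact_stalk hS x
      haveI : Projective ((DerSch.stalkFunctor (Proj (CohB1.polyGrading n k)) x).obj
          (∐ fun _ : Fin r => twist (CohB1.polyGrading n k) (-((n : ℤ) + 1 + m₀'))) ) :=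
        Groth.Agent.LD.Syz.projective_stalk_of_isFinLocFree _ hElf x
      have h2 : HasProjectiveDimensionLT ((DerSch.stalkFunctor (Proj (CohB1.polyGrading n k)) x).obj
          (∐ fun _ : Fin r => twist (CohB1.polyGrading n k) (-((n : ℤ) + 1 + m₀')))) (s + 1) :=
        hasProjectiveDimensionLT_of_ge _ 1 (s + 1) (by omega)
      exact hTx.hasProjectiveDimensionLT_X₁ (s + 1) h2 (h x hx)
    obtain ⟨m₁, hm₁⟩ := ih (kernel p) hK hKpd (i + 1) (by omega)
    refine ⟨m₁, fun m hm => ?_⟩
    have hT := QC.shortExact_tensorMap_of_isInvertible hS _ (isInvertible_twist n k (-(m : ℤ)))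
    refine CL.subsingleton_right hT i ?_ (hm₁ m hm)
    apply QC.subsingleton_HH_sigma_tensor _ _ (isInvertible_twist n k (-(m : ℤ)))
    refine CL.subsingleton_of_iso (twistMulIso n k (-((n : ℤ) + 1 + m₀')) (-(m : ℤ))
      (-((n : ℤ) + 1 + m₀') + -(m : ℤ)) rfl).symm i ?_
    apply subsingleton_HH_twist_all n k _ i
    · rintro ⟨-, h'⟩
      have : (0 : ℤ) ≤ (n : ℤ) := Int.natCast_nonneg n
      have : (0 : ℤ) ≤ (m₀' : ℤ) := Int.natCast_nonneg m₀'
      have : (0 : ℤ) ≤ (m : ℤ) := Int.natCast_nonneg m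
      omega
    · rintro ⟨h', -⟩; omega

end Groth.Agent.LD.PD
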